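import Cfsg.Agent.H322.ThreeP.One
import Cfsg.Agent.SmallSimple.SylowInter
import Cfsg.Agent.Walter.PSLFacts
import Cfsg.Agent.WeakTI.PslTwo

/-!
# Exclusion of the first case for primitive groups
-/

set_option autoImplicit false
set_option linter.unusedSectionVars false

open Cfsg Cfsg.Agent.H656.DihedralP

namespace Cfsg.Agent.H322.ThreeP

theorem modEq_of_ti {K : Type*} [Group K] [Finite K] {n : ℕ} (hn : 1 ≤ n) (S : Sylow 2 K)
    (hS : Nat.card (S : Subgroup K) = 2 ^ n)
    (hTI : ∀ R : Sylow 2 K, S ≠ R → (S : Subgroup K) ⊓ (R : Subgroup K) = ⊥) :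
    Nat.card (Sylow 2 K) ≡ 1 [MOD 2 ^ n] := by
  have : Fact (Nat.Prime 2) := ⟨Nat.prime_two⟩
  by_contra h
  obtain ⟨R, hne, hle⟩ := Cfsg.Agent.SmallSimple.SylowInter.exists_ne_card_le 2 n h S
  rw [hTI R hne, Subgroup.card_bot, hS, one_mul] at hle
  have : 2 ^ (n - 1) < 2 ^ n := Nat.pow_lt_pow_right (by norm_num) (by omega)
  omega

universe u

variable {G : Type u} [Group G] [Finite G]

/-- A simple group `SL₂(2ⁿ)` is not primitive of degree `3 (2ⁿ + 1)`. -/
theorem not_primitive_sl2 [IsSimpleGroup G] {Ω : Type*} [Fintype Ω] [MulAction G Ω]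
    [MulAction.IsPretransitive G Ω]
    {F : Type*} [Field F] [Fintype F] {n : ℕ} (hn : 2 ≤ n) (hF : Fintype.card F = 2 ^ n)
    (e : G ≃* Matrix.ProjectiveSpecialLinearGroup (Fin 2) F) (hΩ : Fintype.card Ω = 3 * (2 ^ n + 1))
    (hprim : MulAction.IsPreprimitive G Ω) : False := by
  have : Fact (Nat.Prime 2) := ⟨Nat.prime_two⟩
  have hq4 : 4 ≤ 2 ^ n := by
    calc 4 = 2 ^ 2 := by norm_num
      _ ≤ 2 ^ n := Nat.pow_le_pow_right (by norm_num) hn
  have hfacts := fun S : Sylow 2 G => Cfsg.Agent.Walter.PSLFacts.even_facts (by omega : n ≠ 0) hF e S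
  have heven : Even (Fintype.card F) := by
    rw [hF]
    exact (Nat.even_pow.mpr ⟨even_two, by omega⟩)
  have hcard := Cfsg.Agent.SmallSimple.PSLTwoPart.card_psl_two_even heven
  rw [← Nat.card_congr e.toEquiv, hF] at hcard
  have hsq : (2 ^ n) ^ 2 - 1 = (2 ^ n + 1) * (2 ^ n - 1) := by
    have := Nat.sq_sub_sq (2 ^ n) 1
    rwa [one_pow] at this
  rw [hsq] at hcard
  obtain ⟨a₀⟩ : Nonempty Ω := by
    rw [← Fintype.card_pos_iff, hΩ]
    positivity
  set H := MulAction.stabilizer G a₀ with hH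
  have hidx : H.index = 3 * (2 ^ n + 1) := by
    rw [hH, MulAction.index_stabilizer_of_transitive, Nat.card_eq_fintype_card, hΩ]
  have hHcard : 3 * Nat.card H = 2 ^ n * (2 ^ n - 1) := by
    have h1 := H.index_mul_card
    rw [hidx, hcard] at h1
    apply Nat.eq_of_mul_eq_mul_left (show 0 < 2 ^ n + 1 by positivity)
    linarith
  -- a Sylow subgroup of `H`
  obtain ⟨R⟩ : Nonempty (Sylow 2 H) := inferInstance
  have hHfac : (Nat.card H).factorization 2 = n := by
    have h1 : (3 * Nat.card H).factorization 2 = (2 ^ n * (2 ^ n - 1)).factorization 2 := by rw [hHcard]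
    rw [fact_mul (by norm_num) Nat.card_pos.ne', fact_odd (by norm_num : 3 % 2 = 1),
      fact_mul (by positivity) (by omega), Nat.prime_two.factorization_pow, Finsupp.single_eq_same,
      fact_odd (A := 2 ^ n - 1) (by
        have : 2 ∣ 2 ^ n := dvd_pow_self 2 (by omega)
        omega)] at h1
    omega
  have hcardR : ∀ R : Sylow 2 H, Nat.card (R : Subgroup H) = 2 ^ n := by
    intro R
    have h1 : Nat.card R = 2 ^ (Nat.card H).factorization 2 := R.card_eq_multiplicity
    rw [hHfac] at h1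
    exact h1
  have hGfac : (Nat.card G).factorization 2 = n := by
    obtain ⟨S⟩ : Nonempty (Sylow 2 G) := inferInstance
    have h1 : Nat.card (S : Subgroup G) = 2 ^ (Nat.card G).factorization 2 := S.card_eq_multiplicity
    rw [(hfacts S).2.2] at h1
    exact (Nat.pow_right_injective (le_refl 2) h1).symm
  have hmapcard : ∀ R : Sylow 2 H, Nat.card ((R : Subgroup H).map H.subtype) =
      2 ^ (Nat.card G).factorization 2 := by
    intro R
    rw [Subgroup.card_map_of_injective H.subtype_injective, hcardR, hGfac]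
  let up : Sylow 2 H → Sylow 2 G := fun R => Sylow.ofCard ((R : Subgroup H).map H.subtype) (hmapcard R)
  have hup : ∀ R : Sylow 2 H, ((up R : Sylow 2 G) : Subgroup G) = (R : Subgroup H).map H.subtype :=
    fun R => rfl
  have hTIG : ∀ S T : Sylow 2 G, S ≠ T → (S : Subgroup G) ⊓ (T : Subgroup G) = ⊥ := by
    intro S T hST
    rw [Subgroup.eq_bot_iff_forall]
    intro t ht
    by_contra ht1
    apply hST
    apply Sylow.ext
    rw [← (hfacts S).2.1 t ht.1 ht1, (hfacts T).2.1 t ht.2 ht1]
  have hTIH : ∀ R T : Sylow 2 H, R ≠ T → (R : Subgroup H) ⊓ (T : Subgroup H) = ⊥ := by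
    intro R T hRT
    have h1 : up R ≠ up T := by
      intro h2
      apply hRT
      apply Sylow.ext
      have h3 : (R : Subgroup H).map H.subtype = (T : Subgroup H).map H.subtype := by
        rw [← hup, ← hup, h2]
      exact Subgroup.map_injective H.subtype_injective h3
    have h2 := hTIG _ _ h1
    rw [hup, hup, ← Subgroup.map_inf _ _ _ H.subtype_injective] at h2
    exact (Subgroup.map_eq_bot_iff_of_injective _ H.subtype_injective).mp h2
  have hmod := modEq_of_ti (by omega) R (hcardR R) (hTIH R)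
  have hdvd : Nat.card (Sylow 2 H) ∣ (R : Subgroup H).index := R.card_dvd_index
  have hRidx : 3 * (R : Subgroup H).index = 2 ^ n - 1 := by
    have h1 := (R : Subgroup H).card_mul_index
    rw [hcardR R] at h1
    apply Nat.eq_of_mul_eq_mul_left (show 0 < 2 ^ n by positivity)
    rw [← hHcard, ← h1]
    ring
  have hone : Nat.card (Sylow 2 H) = 1 := by
    have h1 : Nat.card (Sylow 2 H) ≤ (R : Subgroup H).index := Nat.le_of_dvd (by omega) hdvd
    have h2 : Nat.card (Sylow 2 H) < 2 ^ n := by omega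
    have h3 : 1 < 2 ^ n := by omega
    rw [Nat.ModEq, Nat.mod_eq_of_lt h2, Nat.mod_eq_of_lt h3] at hmod
    exact hmod
  have hsub : Subsingleton (Sylow 2 H) := (Nat.card_eq_one_iff_unique.mp hone).1
  have hRn : (R : Subgroup H).Normal := R.normal_of_subsingleton
  have hle : H ≤ Subgroup.normalizer (((up R : Sylow 2 G) : Subgroup G) : Set G) := by
    rw [hup, ← Subgroup.normal_subgroupOf_iff_le_normalizer (Subgroup.map_subtype_le _)]
    have h1 : ((R : Subgroup H).map H.subtype).subgroupOf H = (R : Subgroup H) := by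
      rw [Subgroup.subgroupOf, Subgroup.comap_map_eq_self_of_injective H.subtype_injective]
    rw [h1]
    exact hRn
  have hnt : Nontrivial Ω := by
    rw [← Fintype.one_lt_card_iff_nontrivial, hΩ]
    omega
  have hco : IsCoatom H := (MulAction.isCoatom_stabilizer_iff_preprimitive G a₀).mpr hprim
  have hUcard : Nat.card ((up R : Sylow 2 G) : Subgroup G) = 2 ^ n := (hfacts (up R)).2.2
  rcases hco.le_iff.mp hle with htop | heq
  · have hnorm : ((up R : Sylow 2 G) : Subgroup G).Normal := Subgroup.normalizer_eq_top_iff.mp htop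
    rcases hnorm.eq_bot_or_eq_top with h1 | h1
    · rw [h1, Subgroup.card_bot] at hUcard
      omega
    · rw [h1, Subgroup.card_top, hcard] at hUcard
      have h2 : 2 ^ n * 2 ≤ 2 ^ n * ((2 ^ n + 1) * (2 ^ n - 1)) := by
        apply Nat.mul_le_mul_left
        have : 1 ≤ 2 ^ n - 1 := by omega
        nlinarith
      omega
  · have h1 : Nat.card (Sylow 2 G) = 3 * (2 ^ n + 1) := by
      refine (up R).card_eq_index_normalizer.trans ?_
      have h3 := congrArg Subgroup.index heq
      rw [hidx] at h3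
      exact h3
    have h2 := modEq_of_ti (by omega) (up R) hUcard (hTIG (up R))
    rw [h1] at h2
    have h3 : 2 ^ n ∣ 3 * (2 ^ n + 1) - 1 := (Nat.modEq_iff_dvd' (by omega)).mp h2.symm
    have h4 : 3 * (2 ^ n + 1) - 1 = 2 ^ n * 3 + 2 := by omega
    rw [h4] at h3
    have h5 := (Nat.dvd_add_right (Dvd.intro _ rfl)).mp h3
    have := Nat.le_of_dvd two_pos h5
    omega

variable {p : ℕ} [Fact p.Prime] {P : Sylow p G}
variable {Ω : Type*} [Fintype Ω] [MulAction G Ω] [MulAction.IsPretransitive G Ω]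

theorem caseA_false [IsSimpleGroup G] (hna : ∃ a b : G, a * b ≠ b * a) (h : Hyp P)
    (hΩ : Fintype.card Ω = 3 * p) {x : G}
    (hx : x ∈ Subgroup.normalizer ((P : Subgroup G) : Set G)) (hxP : x ∉ (P : Subgroup G))
    (hf3 : Nat.card (MulAction.fixedBy Ω x) = 3) (hA : CaseA G Ω)
    (hprim : MulAction.IsPreprimitive G Ω) : False := by
  have hpp : p.Prime := Fact.out
  have hp5 := h.five
  have hx2 := h.orderOf_eq_two hx hxP
  have hconj := isConj_all h
  have hf : ∀ b : G, orderOf b = 2 → Nat.card (MulAction.fixedBy Ω b) = 3 := by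
    intro b hb
    rw [← hf3]
    exact card_fixedBy_conj (hconj b x hb hx2)
  have hse := isStronglyEmbedded_of_caseA hf (by rw [hΩ]; omega) hA hx2
  have h2G : 2 ∣ Nat.card G := by
    rw [← hx2]
    exact orderOf_dvd_natCard x
  have h4G : 4 ∣ Nat.card G := by
    apply Cfsg.Agent.SmallSimple.EvenOrder.four_dvd_card _ h2G
    intro hcomm
    obtain ⟨a, b, hab⟩ := hna
    exact hab (hcomm.is_comm.comm a b)
  obtain ⟨S⟩ : Nonempty (Sylow 2 G) := inferInstance
  have hdS := card_dvd_three hf h2G hA S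
  have hScard : Nat.card (S : Subgroup G) = 2 ^ (Nat.card G).factorization 2 := S.card_eq_multiplicity
  rw [hScard, hΩ] at hdS
  have hO := order_cases hna h hΩ hx hxP
  rw [hf3] at hO
  have hfac := factorization_centralizer hconj hx2
  have hf2 := caseA_fact hpp hp5 hO hfac h4G Nat.card_pos.ne' Nat.card_pos.ne' hdS
  have hpdvd : p ∣ Nat.card G := by
    have : Nat.card (P : Subgroup G) = p := h.card
    rw [← this]
    exact Subgroup.card_subgroup_dvd_card _
  obtain ⟨n, F, _, _, hpn, hF, ⟨e⟩⟩ := Cfsg.Agent.H656.BenderArith.conclusion hpp hp5 hf2 hpdvd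
    (Cfsg.Agent.S0222.result hna _ hse)
  have hn2 : 2 ≤ n := by
    by_contra hcon
    have : 2 ^ n ≤ 2 ^ 1 := Nat.pow_le_pow_right (by norm_num) (by omega)
    omega
  have hchar : CharP F 2 := by
    obtain ⟨r, hr⟩ := CharP.exists F
    obtain ⟨m, hrp, hm⟩ := FiniteField.card F r
    have hr2 : r = 2 := by
      have h5 : r ∣ 2 ^ n := by
        rw [← hF, hm]
        exact dvd_pow_self r m.pos.ne'
      exact (Nat.prime_dvd_prime_iff_eq hrp Nat.prime_two).mp (hrp.dvd_of_dvd_pow h5)
    rw [← hr2]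
    exact hr
  obtain ⟨e'⟩ := Cfsg.Agent.WeakTI.PslTwo.nonempty_equiv (F := F)
  exact not_primitive_sl2 hn2 hF (e.trans e') (by rw [hΩ, hpn]) hprim

end Cfsg.Agent.H322.ThreeP
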