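import Mathlib
import Cfsg.Agent.S0799
import Cfsg.Agent.SmallSimple.SylowInter
import Cfsg.Agent.ClassicalGeometry.PSL2ElemOrder
import Cfsg.Agent.ClassicalGeometry.PSL2Basic
import Cfsg.Agent.SmallSimple.PSLTwoPart

/-!
# Subgroups of order `q (q - 1) / 3` of `PSL₂(q)`
-/

set_option autoImplicit false
set_option linter.unusedSectionVars false

open Subgroup

namespace Cfsg.Agent.H322.ThreeP

theorem modEq_of_ti' {K : Type*} [Group K] [Finite K] {r n : ℕ} [Fact r.Prime] (hn : 1 ≤ n) (S : Sylow r K)
    (hS : Nat.card (S : Subgroup K) = r ^ n)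
    (hTI : ∀ R : Sylow r K, S ≠ R → (S : Subgroup K) ⊓ (R : Subgroup K) = ⊥) :
    Nat.card (Sylow r K) ≡ 1 [MOD r ^ n] := by
  have hr : r.Prime := Fact.out
  by_contra h
  obtain ⟨R, hne, hle⟩ := Cfsg.Agent.SmallSimple.SylowInter.exists_ne_card_le r n h S
  rw [hTI R hne, Subgroup.card_bot, hS, one_mul] at hle
  have : r ^ (n - 1) < r ^ n := Nat.pow_lt_pow_right hr.one_lt (by omega)
  omega

theorem card_pgl2 {K : Type*} [Field K] [Fintype K] :
    Nat.card (Matrix.ProjGenLinGroup (Fin 2) K) = Fintype.card K * (Fintype.card K ^ 2 - 1) := by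
  have h1 := Cfsg.Agent.ClassicalGeometry.PSL2Basic.card_PGL_mul (n := Fin 2) (F := K)
  rw [Matrix.card_GL_field, Fin.prod_univ_two] at h1
  simp only [Fin.val_zero, Fin.val_one, pow_zero, pow_one] at h1
  have hq : 1 < Fintype.card K := Fintype.one_lt_card
  generalize Fintype.card K = q at *
  apply Nat.eq_of_mul_eq_mul_right (show 0 < q - 1 by omega)
  rw [h1]
  have e1 : q ^ 2 - q = q * (q - 1) := by
    rw [Nat.mul_sub, mul_one]
    congr 1
    ring
  rw [e1]
  ring

theorem dickson {F : Type*} [Field F] [Fintype F] {q : ℕ} (hF : Fintype.card F = q) (hodd : Odd q)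
    (hq9 : 9 ≤ q) (hs : IsSimpleGroup (Matrix.ProjectiveSpecialLinearGroup (Fin 2) F))
    (H : Subgroup (Matrix.ProjectiveSpecialLinearGroup (Fin 2) F))
    (hH : 3 * Nat.card H = q * (q - 1)) : q = 9 := by
  obtain ⟨r, hr⟩ := CharP.exists F
  obtain ⟨m, hrp, hm⟩ := FiniteField.card F r
  have hrF : Fact r.Prime := ⟨hrp⟩
  have hq2 : q % 2 = 1 := Nat.odd_iff.mp hodd
  have hgcd : Nat.gcd 2 (q - 1) = 2 := by
    apply Nat.gcd_eq_left
    omega
  have hG : 2 * Nat.card (Matrix.ProjectiveSpecialLinearGroup (Fin 2) F) = q * (q ^ 2 - 1) := by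
    have := Cfsg.Agent.SmallSimple.PSLTwoPart.card_psl_two_odd (F := F) (by rw [hF]; exact hodd)
    rw [hF] at this
    exact this
  have hsq : q ^ 2 - 1 = (q + 1) * (q - 1) := by
    have := Nat.sq_sub_sq q 1
    rwa [one_pow] at this
  rcases Cfsg.Agent.S0799.result hF r H with ⟨k, hk, hk'⟩ | ⟨P, K, hKP, ⟨e⟩⟩ | ⟨⟨e⟩⟩ | ⟨⟨e⟩⟩ | ⟨⟨e⟩⟩ |
    ⟨K, _, _, j, hKj, hK⟩
  · exfalso
    rw [hgcd] at hk
    have hkle : k ≤ (q + 1) / 2 := by
      rcases hk with hk | hk
      · exact Nat.le_of_dvd (by omega) hk
      · have := Nat.le_of_dvd (by omega) hk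
        omega
    have hle : Nat.card H ≤ q + 1 := by
      rcases hk' with ⟨-, hk'⟩ | ⟨⟨e⟩⟩
      · omega
      · rw [Nat.card_congr e.toEquiv, DihedralGroup.nat_card]
        omega
    have h1 : 8 * q ≤ q * (q - 1) := by
      rw [mul_comm 8]
      exact Nat.mul_le_mul_left _ (by omega)
    omega
  · exfalso
    -- the normalizer of a Sylow subgroup
    have hcardP : Nat.card (P : Subgroup (Matrix.ProjectiveSpecialLinearGroup (Fin 2) F)) = r ^ (m : ℕ) := by
      have h1 : Nat.card P = r ^ (Nat.card (Matrix.ProjectiveSpecialLinearGroup (Fin 2) F)).factorization r :=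
        P.card_eq_multiplicity
      have h2 : (Nat.card (Matrix.ProjectiveSpecialLinearGroup (Fin 2) F)).factorization r = m := by
        have h3 : (2 * Nat.card (Matrix.ProjectiveSpecialLinearGroup (Fin 2) F)).factorization r =
            (q * (q ^ 2 - 1)).factorization r := by rw [hG]
        have hrq : r ∣ q := by
          rw [← hF, hm]
          exact dvd_pow_self r m.pos.ne'
        have hr2 : ¬ r ∣ 2 := by
          intro h4
          have h5 := (Nat.prime_dvd_prime_iff_eq hrp Nat.prime_two).mp h4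
          rw [h5] at hrq
          omega
        have hr1 : ¬ r ∣ q ^ 2 - 1 := by
          intro h4
          have h5 : r ∣ q ^ 2 := dvd_pow hrq two_ne_zero
          have h6 := Nat.dvd_sub h5 h4
          have h7 : 1 ≤ q ^ 2 := Nat.one_le_pow _ _ (by omega)
          rw [show q ^ 2 - (q ^ 2 - 1) = 1 by omega] at h6
          exact hrp.one_lt.ne' (Nat.dvd_one.mp h6)
        rw [Nat.factorization_mul (by norm_num) Nat.card_pos.ne', Nat.factorization_mul (by omega)
          (by rw [hsq]; exact mul_ne_zero (by omega) (by omega))] at h3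
        simp only [Finsupp.coe_add, Pi.add_apply] at h3
        rw [Nat.factorization_eq_zero_of_not_dvd hr2, Nat.factorization_eq_zero_of_not_dvd hr1,
          ← hF, hm, hrp.factorization_pow, Finsupp.single_eq_same] at h3
        omega
      rw [h2] at h1
      exact h1
    have hTI : ∀ R : Sylow r (Matrix.ProjectiveSpecialLinearGroup (Fin 2) F), P ≠ R →
        (P : Subgroup (Matrix.ProjectiveSpecialLinearGroup (Fin 2) F)) ⊓
          (R : Subgroup (Matrix.ProjectiveSpecialLinearGroup (Fin 2) F)) = ⊥ := by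
      intro R hPR
      rw [Subgroup.eq_bot_iff_forall]
      intro x hx
      by_contra hx1
      exact hPR (Cfsg.Agent.ClassicalGeometry.PSL2ElemOrder.sylow_eq_of_mem r P R x hx1 hx.1 hx.2)
    have hmod := modEq_of_ti' m.pos P hcardP hTI
    have hidx : Nat.card (Sylow r (Matrix.ProjectiveSpecialLinearGroup (Fin 2) F)) =
        (normalizer ((P : Subgroup (Matrix.ProjectiveSpecialLinearGroup (Fin 2) F)) :
          Set (Matrix.ProjectiveSpecialLinearGroup (Fin 2) F))).index := P.card_eq_index_normalizer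
    rw [hidx] at hmod
    set N := normalizer ((P : Subgroup (Matrix.ProjectiveSpecialLinearGroup (Fin 2) F)) :
          Set (Matrix.ProjectiveSpecialLinearGroup (Fin 2) F)) with hN
    have hrm : r ^ (m : ℕ) = q := by rw [← hm, hF]
    rw [hrm] at hmod hcardP
    have h1 : Nat.card H ∣ Nat.card N := by
      rw [Nat.card_congr e.toEquiv]
      exact Subgroup.card_dvd_of_le hKP
    obtain ⟨s, hs'⟩ := h1
    have h2 := N.index_mul_card
    -- `2 I s = 3 (q + 1)`
    have h3 : 2 * (N.index * s) = 3 * (q + 1) := by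
      apply Nat.eq_of_mul_eq_mul_right (show 0 < q * (q - 1) from Nat.mul_pos (by omega) (by omega))
      calc 2 * (N.index * s) * (q * (q - 1)) = 2 * (N.index * s) * (3 * Nat.card H) := by rw [hH]
        _ = 3 * (2 * (N.index * (Nat.card H * s))) := by ring
        _ = 3 * (2 * Nat.card (Matrix.ProjectiveSpecialLinearGroup (Fin 2) F)) := by rw [← hs', h2]
        _ = 3 * (q * (q ^ 2 - 1)) := by rw [hG]
        _ = 3 * (q + 1) * (q * (q - 1)) := by rw [hsq]; ring
    have hI0 : N.index ≠ 0 := Subgroup.index_ne_zero_of_finite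
    have hs0 : s ≠ 0 := by
      rintro rfl
      omega
    have hI1 : N.index ≠ 1 := by
      intro h4
      have h5 : N = ⊤ := Subgroup.index_eq_one.mp h4
      have h6 : (P : Subgroup (Matrix.ProjectiveSpecialLinearGroup (Fin 2) F)).Normal :=
        Subgroup.normalizer_eq_top_iff.mp h5
      rcases h6.eq_bot_or_eq_top with h7 | h7
      · rw [h7, Subgroup.card_bot] at hcardP
        omega
      · rw [h7, Subgroup.card_top] at hcardP
        rw [hcardP, hsq] at hG
        have h8 : 2 = (q + 1) * (q - 1) := by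
          apply Nat.eq_of_mul_eq_mul_left (show 0 < q by omega)
          linarith
        have h9 : (q + 1) * 1 ≤ (q + 1) * (q - 1) := Nat.mul_le_mul_left _ (by omega)
        omega
    have h4 : q ∣ N.index - 1 := (Nat.modEq_iff_dvd' (by omega)).mp hmod.symm
    obtain ⟨j, hj⟩ := h4
    have hj0 : j ≠ 0 := by
      rintro rfl
      omega
    have hI : N.index = q * j + 1 := by omega
    have h5 : q * 1 ≤ q * j := Nat.mul_le_mul_left _ (by omega)
    have h6 : s = 1 := by
      by_contra h7
      have h8 : N.index * 2 ≤ N.index * s := Nat.mul_le_mul_left _ (by omega)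
      omega
    rw [h6, mul_one, hI] at h3
    -- `2 q j + 2 = 3 q + 3`
    have h7 : j = 1 ∨ 2 ≤ j := by omega
    rcases h7 with h7 | h7
    · rw [h7] at h3
      omega
    · have : q * 2 ≤ q * j := Nat.mul_le_mul_left _ h7
      omega
  · exfalso
    have h1 : Nat.card H = 12 := by
      rw [Nat.card_congr e.toEquiv, nat_card_alternatingGroup, Nat.card_eq_fintype_card (α := Fin 4),
        Fintype.card_fin]
      decide
    rw [h1] at hH
    have : 9 * 8 ≤ q * (q - 1) := Nat.mul_le_mul hq9 (by omega)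
    omega
  · have h1 : Nat.card H = 24 := by
      rw [Nat.card_congr e.toEquiv, Nat.card_perm, Nat.card_eq_fintype_card (α := Fin 4), Fintype.card_fin]
      decide
    rw [h1] at hH
    by_contra hne
    have : 10 * 9 ≤ q * (q - 1) := Nat.mul_le_mul (by omega) (by omega)
    omega
  · exfalso
    have h1 : Nat.card H = 60 := by
      rw [Nat.card_congr e.toEquiv, nat_card_alternatingGroup, Nat.card_eq_fintype_card (α := Fin 5),
        Fintype.card_fin]
      decide
    rw [h1] at hH
    rcases Nat.lt_or_ge q 14 with h2 | h2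
    · interval_cases q <;> omega
    · have : 14 * 13 ≤ q * (q - 1) := Nat.mul_le_mul h2 (by omega)
      omega
  · -- linear groups over subfields
    have hKodd : Fintype.card K % 2 = 1 := by
      rcases Nat.mod_two_eq_zero_or_one (Fintype.card K) with h1 | h1
      · exfalso
        rcases Nat.eq_zero_or_pos j with hj | hj
        · rw [hj, pow_zero] at hKj
          omega
        · have h2 : 2 ∣ Fintype.card K ^ j := dvd_pow (by omega) hj.ne'
          omega
      · exact h1
    have hKcard : 1 < Fintype.card K := Fintype.one_lt_card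
    have hle : Nat.card H ≤ Fintype.card K * (Fintype.card K ^ 2 - 1) := by
      rcases hK with ⟨⟨e⟩⟩ | ⟨⟨e⟩⟩
      · have h1 := Cfsg.Agent.SmallSimple.PSLTwoPart.card_psl_two_odd (F := K) (Nat.odd_iff.mpr hKodd)
        rw [← Nat.card_congr e.toEquiv] at h1
        omega
      · rw [Nat.card_congr e.toEquiv, card_pgl2]
    have hj0 : j ≠ 0 := by
      rintro rfl
      rw [pow_zero] at hKj
      omega
    have hj1 : j ≠ 1 := by
      rintro rfl
      rw [pow_one] at hKj
      rcases hK with ⟨⟨e⟩⟩ | ⟨⟨e⟩⟩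
      · have h1 := Cfsg.Agent.SmallSimple.PSLTwoPart.card_psl_two_odd (F := K) (Nat.odd_iff.mpr hKodd)
        rw [← Nat.card_congr e.toEquiv, hKj, hsq] at h1
        have h2 : 6 * Nat.card H = q * (q - 1) * (3 * (q + 1)) := by
          calc 6 * Nat.card H = 3 * (2 * Nat.card H) := by ring
            _ = _ := by rw [h1]; ring
        have h3 : q * (q - 1) * 3 ≤ q * (q - 1) * (3 * (q + 1)) := Nat.mul_le_mul_left _ (by omega)
        have h4 : 0 < q * (q - 1) := Nat.mul_pos (by omega) (by omega)
        omega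
      · have h1 : Nat.card H = q * ((q + 1) * (q - 1)) := by
          rw [Nat.card_congr e.toEquiv, card_pgl2, hKj, hsq]
        have h2 : Nat.card H = q * (q - 1) * (q + 1) := by rw [h1]; ring
        have h3 : q * (q - 1) * 3 ≤ q * (q - 1) * (q + 1) := Nat.mul_le_mul_left _ (by omega)
        have h4 : 0 < q * (q - 1) := Nat.mul_pos (by omega) (by omega)
        omega
    have hq' : Fintype.card K ^ 2 ≤ q := by
      rw [← hKj]
      exact Nat.pow_le_pow_right (by omega) (by omega)
    generalize Fintype.card K = k at *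
    have h1 : k ^ 2 * (k ^ 2 - 1) ≤ q * (q - 1) := Nat.mul_le_mul hq' (by omega)
    have h2 : k * (k * (k ^ 2 - 1)) ≤ 3 * (k * (k ^ 2 - 1)) := by
      calc k * (k * (k ^ 2 - 1)) = k ^ 2 * (k ^ 2 - 1) := by ring
        _ ≤ q * (q - 1) := h1
        _ = 3 * Nat.card H := hH.symm
        _ ≤ _ := Nat.mul_le_mul_left _ hle
    have h3 : 0 < k * (k ^ 2 - 1) := by
      apply Nat.mul_pos (by omega)
      have : 2 ^ 2 ≤ k ^ 2 := Nat.pow_le_pow_left (by omega) 2
      omega
    have h4 : k ≤ 3 := Nat.le_of_mul_le_mul_right h2 h3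
    have h5 : k = 3 := by omega
    rw [h5] at hle
    by_contra hne
    have : 10 * 9 ≤ q * (q - 1) := Nat.mul_le_mul (by omega) (by omega)
    norm_num at hle
    omega

end Cfsg.Agent.H322.ThreeP
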