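import Cfsg.Agent.H322.ThreeP.Fix

/-!
# The second case: an involution of small centralizer in a Sylow `2`-subgroup
-/

set_option autoImplicit false
set_option linter.unusedSectionVars false

open Cfsg Pointwise MulAction

namespace Cfsg.Agent.H322.ThreeP

variable {G : Type*} [Group G] [Finite G] {Ω : Type*} [Fintype Ω] [MulAction G Ω]

theorem mem_of_stab {T : Set Ω} {g : G} (hg : g ∈ stabilizer G T) {x : Ω} (hx : x ∈ T) : g • x ∈ T := by
  rw [mem_stabilizer_iff] at hg
  rw [← hg]
  exact Set.smul_mem_smul_set hx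

/-- An involution acting on a set of three points fixes one of them. -/
theorem exists_fixed {T : Set Ω} (hT : T.ncard = 3) {τ : G} (hτ : τ * τ = 1) (hτT : τ ∈ stabilizer G T) :
    ∃ a b c : Ω, a ≠ b ∧ a ≠ c ∧ b ≠ c ∧ T = {a, b, c} ∧ τ • a = a := by
  obtain ⟨a, b, c, hab, hac, hbc, rfl⟩ := Set.ncard_eq_three.mp hT
  have hinv : ∀ x : Ω, τ • τ • x = x := by
    intro x
    rw [← mul_smul, hτ, one_smul]
  have ha := mem_of_stab hτT (x := a) (by simp)
  have hb := mem_of_stab hτT (x := b) (by simp)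
  have hc := mem_of_stab hτT (x := c) (by simp)
  have hinj : ∀ x y : Ω, τ • x = τ • y → x = y := fun x y h => smul_left_cancel τ h
  simp only [Set.mem_insert_iff, Set.mem_singleton_iff] at ha hb hc
  rcases ha with ha | ha | ha
  · exact ⟨a, b, c, hab, hac, hbc, rfl, ha⟩
  · have h1 : τ • b = a := by rw [← ha, hinv]
    have h2 : τ • c = c := by
      rcases hc with hc | hc | hc
      · exact absurd (hinj _ _ (hc.trans h1.symm)) hbc.symm
      · exact absurd (hinj _ _ (hc.trans ha.symm)) hac.symm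
      · exact hc
    refine ⟨c, a, b, hac.symm, hbc.symm, hab, ?_, h2⟩
    ext x
    simp only [Set.mem_insert_iff, Set.mem_singleton_iff]
    tauto
  · have h1 : τ • c = a := by rw [← ha, hinv]
    have h2 : τ • b = b := by
      rcases hb with hb | hb | hb
      · exact absurd (hinj _ _ (hb.trans h1.symm)) hbc
      · exact hb
      · exact absurd (hinj _ _ (hb.trans ha.symm)) hab.symm
    refine ⟨b, a, c, hab.symm, hbc, hac, ?_, h2⟩
    ext x
    simp only [Set.mem_insert_iff, Set.mem_singleton_iff]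
    tauto

theorem card_le_four {S : Subgroup G} (hS : IsPGroup 2 S)
    (hf : ∀ b : G, orderOf b = 2 → Nat.card (fixedBy Ω b) = 3)
    {T : Set Ω} (hT3 : T.ncard = 3) (hST : S ≤ stabilizer G T) {τ : G} (hτS : τ ∈ S)
    (hτ2 : orderOf τ = 2) (hne : fixedBy Ω τ ≠ T) :
    Nat.card (S ⊓ Subgroup.centralizer {τ} : Subgroup G) ≤ 4 := by
  have hττ : τ * τ = 1 := by
    have := pow_orderOf_eq_one τ
    rwa [hτ2, sq] at this
  obtain ⟨a, b, c, hab, hac, hbc, hT, hτa⟩ := exists_fixed hT3 hττ (hST hτS)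
  have h3 : (fixedBy Ω τ).ncard = 3 := by
    rw [← Nat.card_coe_set_eq]
    exact hf τ hτ2
  have hbT : b ∈ T := by rw [hT]; simp
  have hcT : c ∈ T := by rw [hT]; simp
  have haT : a ∈ T := by rw [hT]; simp
  -- `τ` moves `b`
  have third : ∀ u : G, u ∈ stabilizer G T → u • a = a → u • b = b → u • c = c := by
    intro u hu hua hub
    have h4 := mem_of_stab hu hcT
    rw [hT] at h4
    simp only [Set.mem_insert_iff, Set.mem_singleton_iff] at h4
    rcases h4 with h4 | h4 | h4
    · exact absurd (smul_left_cancel u (h4.trans hua.symm)) hac.symm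
    · exact absurd (smul_left_cancel u (h4.trans hub.symm)) hbc.symm
    · exact h4
  have hτb : τ • b ≠ b := by
    intro h4
    have h5 := third τ (hST hτS) hτa h4
    apply hne
    symm
    apply Set.eq_of_subset_of_ncard_le
    · rw [hT]
      intro x hx
      simp only [Set.mem_insert_iff, Set.mem_singleton_iff] at hx
      rcases hx with rfl | rfl | rfl
      · exact hτa
      · exact h4
      · exact h5
    · rw [h3, hT3]
    · exact Set.toFinite _
  have hτc : τ • c ≠ c := by
    intro h4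
    apply hτb
    have h5 := mem_of_stab (hST hτS) hbT
    rw [hT] at h5
    simp only [Set.mem_insert_iff, Set.mem_singleton_iff] at h5
    rcases h5 with h5 | h5 | h5
    · exact absurd (smul_left_cancel τ (h5.trans hτa.symm)) hab.symm
    · exact h5
    · exact absurd (smul_left_cancel τ (h5.trans h4.symm)) hbc
  have hint : ∀ x ∈ T, τ • x = x → x = a := by
    intro x hx hfx
    rw [hT] at hx
    simp only [Set.mem_insert_iff, Set.mem_singleton_iff] at hx
    rcases hx with rfl | rfl | rfl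
    · rfl
    · exact absurd hfx hτb
    · exact absurd hfx hτc
  obtain ⟨b', hb', hb'a⟩ : ∃ b' ∈ fixedBy Ω τ, b' ≠ a := by
    by_contra hcon
    push Not at hcon
    have h4 : fixedBy Ω τ ⊆ {a} := fun x hx => hcon x hx
    have h5 := Set.ncard_le_ncard h4
    rw [h3, Set.ncard_singleton] at h5
    omega
  have hb'T : b' ∉ T := fun h => hb'a (hint b' h hb')
  set C := S ⊓ Subgroup.centralizer {τ} with hC
  have hCT : ∀ g ∈ C, g ∈ stabilizer G T := fun g hg => hST hg.1
  have hCτ : ∀ g ∈ C, g * τ = τ * g := fun g hg => Subgroup.mem_centralizer_singleton_iff.mp hg.2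
  have hCa : ∀ g ∈ C, g • a = a := by
    intro g hg
    apply hint _ (mem_of_stab (hCT g hg) haT)
    rw [← mul_smul, ← hCτ g hg, mul_smul, hτa]
  have hCb' : ∀ g ∈ C, g • b' ∈ fixedBy Ω τ \ {a} := by
    intro g hg
    refine ⟨?_, ?_⟩
    · rw [mem_fixedBy, ← mul_smul, ← hCτ g hg, mul_smul, hb']
    · intro h4
      rw [Set.mem_singleton_iff] at h4
      exact hb'a (smul_left_cancel g (h4.trans (hCa g hg).symm))
  have hCb : ∀ g ∈ C, g • b ∈ T \ {a} := by
    intro g hg
    refine ⟨mem_of_stab (hCT g hg) hbT, ?_⟩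
    intro h4
    rw [Set.mem_singleton_iff] at h4
    exact hab.symm (smul_left_cancel g (h4.trans (hCa g hg).symm))
  let f : C → (T \ {a} : Set Ω) × (fixedBy Ω τ \ {a} : Set Ω) :=
    fun g => (⟨(g : G) • b, hCb g g.2⟩, ⟨(g : G) • b', hCb' g g.2⟩)
  have hfinj : Function.Injective f := by
    rintro ⟨g, hg⟩ ⟨h, hh⟩ hgh
    have h4 : g • b = h • b := congrArg (fun x => (x.1 : Ω)) hgh
    have h5 : g • b' = h • b' := congrArg (fun x => (x.2 : Ω)) hgh
    have he : h⁻¹ * g ∈ C := C.mul_mem (C.inv_mem hh) hg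
    have heb : (h⁻¹ * g) • b = b := by rw [mul_smul, h4, inv_smul_smul]
    have heb' : (h⁻¹ * g) • b' = b' := by rw [mul_smul, h5, inv_smul_smul]
    have he1 : h⁻¹ * g = 1 := by
      by_contra hne1
      obtain ⟨k, hk⟩ := exists_pow_two hS he.1 hne1
      set u := (h⁻¹ * g) ^ k with hu
      have hu1 : u ∈ C := C.pow_mem he k
      have hub : u • b = b := by
        have : h⁻¹ * g ∈ stabilizer G b := heb
        exact Subgroup.pow_mem _ this k
      have hub' : u • b' = b' := by
        have : h⁻¹ * g ∈ stabilizer G b' := heb'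
        exact Subgroup.pow_mem _ this k
      have huc := third u (hCT u hu1) (hCa u hu1) hub
      have h6 : (fixedBy Ω u).ncard = 3 := by
        rw [← Nat.card_coe_set_eq]
        exact hf u hk
      have h7 : T = fixedBy Ω u := by
        apply Set.eq_of_subset_of_ncard_le
        · rw [hT]
          intro x hx
          simp only [Set.mem_insert_iff, Set.mem_singleton_iff] at hx
          rcases hx with rfl | rfl | rfl
          · exact hCa u hu1
          · exact hub
          · exact huc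
        · rw [h6, hT3]
        · exact Set.toFinite _
      exact hb'T (by rw [h7]; exact hub')
    exact Subtype.ext (by
      have := inv_mul_eq_one.mp he1
      exact this.symm)
  have h4 := Nat.card_le_card_of_injective f hfinj
  have h5 : (T \ {a}).ncard = 2 := by
    rw [Set.ncard_sdiff_singleton_of_mem haT, hT3]
  have h6 : (fixedBy Ω τ \ {a}).ncard = 2 := by
    have h7 : a ∈ fixedBy Ω τ := hτa
    rw [Set.ncard_sdiff_singleton_of_mem h7, h3]
  rw [Nat.card_prod, Nat.card_coe_set_eq, Nat.card_coe_set_eq, h5, h6] at h4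
  exact h4

/-- **The second case.** -/
theorem exists_sylow_of_not_caseA
    (hconj : ∀ a b : G, orderOf a = 2 → orderOf b = 2 → IsConj a b)
    (hf : ∀ b : G, orderOf b = 2 → Nat.card (fixedBy Ω b) = 3)
    (hA : ¬ CaseA G Ω) : ∃ (S : Sylow 2 G) (τ z : G), τ ∈ (S : Subgroup G) ∧ z ∈ (S : Subgroup G) ∧
      orderOf τ = 2 ∧ orderOf z = 2 ∧ τ ≠ z ∧
      Nat.card ((S : Subgroup G) ⊓ Subgroup.centralizer {τ} : Subgroup G) = 4 := by
  have : Fact (Nat.Prime 2) := ⟨Nat.prime_two⟩
  unfold CaseA at hA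
  push Not at hA
  obtain ⟨z₁, τ, hz₁, hτ, hτN, hne⟩ := hA
  have h2G : 2 ∣ Nat.card G := by
    rw [← hτ]
    exact orderOf_dvd_natCard τ
  -- a Sylow subgroup with `z₁` in its centre
  obtain ⟨R, hR⟩ : ∃ R : Sylow 2 G, z₁ ∈ (R : Subgroup G) ∧ ∀ s ∈ (R : Subgroup G), s * z₁ = z₁ * s := by
    obtain ⟨R⟩ : Nonempty (Sylow 2 G) := inferInstance
    obtain ⟨z, hzR, hz2, hc⟩ := exists_central R h2G
    obtain ⟨g, hg⟩ := isConj_iff.mp (hconj z z₁ hz2 hz₁)
    refine ⟨g • R, ?_, ?_⟩
    · rw [← hg]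
      exact Subgroup.smul_mem_pointwise_smul z (MulAut.conj g) _ hzR
    · intro s hs
      rw [Sylow.coe_subgroup_smul, Subgroup.mem_pointwise_smul_iff_inv_smul_mem] at hs
      have h1 := hc _ hs
      have h2 : (MulAut.conj g)⁻¹ • s = g⁻¹ * s * g := by
        simp [MulAut.smul_def, ← map_inv]
      rw [h2] at h1
      rw [← hg]
      calc s * (g * z * g⁻¹) = g * ((g⁻¹ * s * g) * z) * g⁻¹ := by group
        _ = g * (z * (g⁻¹ * s * g)) * g⁻¹ := by rw [h1]
        _ = g * z * g⁻¹ * s := by group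
  set N := stabilizer G (fixedBy Ω z₁) with hN
  have hRN : (R : Subgroup G) ≤ N := fun s hs => mem_stab_of_comm (hR.2 s hs)
  -- conjugate inside `N`
  let RN : Sylow 2 N := R.subtype hRN
  obtain ⟨Q, hQ⟩ : ∃ Q : Sylow 2 N, Subgroup.zpowers (⟨τ, hτN⟩ : N) ≤ Q := by
    apply IsPGroup.exists_le_sylow
    apply IsPGroup.of_card (n := 1)
    rw [Nat.card_zpowers, Subgroup.orderOf_mk, hτ, pow_one]
  obtain ⟨n, hn⟩ := MulAction.exists_smul_eq N RN Q
  set S : Sylow 2 G := (n : G) • R with hS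
  have hmemS : ∀ x : G, x ∈ (S : Subgroup G) ↔ (n : G)⁻¹ * x * n ∈ (R : Subgroup G) := by
    intro x
    rw [hS, Sylow.coe_subgroup_smul, Subgroup.mem_pointwise_smul_iff_inv_smul_mem]
    have h2 : (MulAut.conj (n : G))⁻¹ • x = (n : G)⁻¹ * x * n := by
      simp [MulAut.smul_def, ← map_inv]
    rw [h2]
  have hSN : (S : Subgroup G) ≤ N := by
    intro x hx
    have h1 := hRN ((hmemS x).mp hx)
    have h2 : x = n * ((n : G)⁻¹ * x * n) * (n : G)⁻¹ := by group
    rw [h2]
    exact N.mul_mem (N.mul_mem n.2 h1) (N.inv_mem n.2)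
  have hτS : τ ∈ (S : Subgroup G) := by
    rw [hmemS]
    have h1 : (⟨τ, hτN⟩ : N) ∈ (Q : Subgroup N) := hQ (Subgroup.mem_zpowers _)
    rw [← hn, Sylow.coe_subgroup_smul, Subgroup.mem_pointwise_smul_iff_inv_smul_mem] at h1
    have h2 : (MulAut.conj n)⁻¹ • (⟨τ, hτN⟩ : N) = n⁻¹ * ⟨τ, hτN⟩ * n := by
      simp [MulAut.smul_def, ← map_inv]
    rw [h2] at h1
    exact h1
  have hT3 : (fixedBy Ω z₁).ncard = 3 := by
    rw [← Nat.card_coe_set_eq]
    exact hf z₁ hz₁
  -- the central involution of `S`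
  set z : G := n * z₁ * (n : G)⁻¹ with hz
  have hzS : z ∈ (S : Subgroup G) := by
    rw [hmemS, hz]
    have : (n : G)⁻¹ * (n * z₁ * (n : G)⁻¹) * n = z₁ := by group
    rw [this]
    exact hR.1
  have hz2 : orderOf z = 2 := by
    rw [← hz₁]
    exact (MulAut.conj (n : G)).orderOf_eq z₁
  have hzfix : fixedBy Ω z = fixedBy Ω z₁ := by
    rw [hz, ← smul_fixedBy]
    exact n.2
  have hτz : τ ≠ z := by
    rintro rfl
    exact hne hzfix
  have hzc : ∀ s ∈ (S : Subgroup G), s * z = z * s := by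
    intro s hs
    have h1 := hR.2 _ ((hmemS s).mp hs)
    calc s * (n * z₁ * (n : G)⁻¹) = n * (((n : G)⁻¹ * s * n) * z₁) * (n : G)⁻¹ := by group
      _ = n * (z₁ * ((n : G)⁻¹ * s * n)) * (n : G)⁻¹ := by rw [h1]
      _ = n * z₁ * (n : G)⁻¹ * s := by group
  refine ⟨S, τ, z, hτS, hzS, hτ, hz2, hτz, le_antisymm
    (card_le_four S.isPGroup' hf hT3 hSN hτS hτ hne) ?_⟩
  -- lower bound
  set C : Subgroup G := (S : Subgroup G) ⊓ Subgroup.centralizer {τ} with hC
  have hτC : τ ∈ C := ⟨hτS, Subgroup.mem_centralizer_singleton_iff.mpr rfl⟩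
  have hzC : z ∈ C := ⟨hzS, Subgroup.mem_centralizer_singleton_iff.mpr (hzc τ hτS).symm⟩
  have hCp : IsPGroup 2 C := S.isPGroup'.to_le inf_le_left
  obtain ⟨k, hk⟩ := IsPGroup.iff_card.mp hCp
  by_contra hcon
  push Not at hcon
  have h1 : Nat.card C = 1 ∨ Nat.card C = 2 := by
    rw [hk] at hcon ⊢
    have hk2 : k < 2 := by
      by_contra h2
      have : 2 ^ 2 ≤ 2 ^ k := Nat.pow_le_pow_right (by norm_num) (by omega)
      omega
    interval_cases k
    · left; rfl
    · right; rfl
  have h2 : ∀ x ∈ C, x = 1 ∨ x = τ := by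
    intro x hx
    have hτ1 : τ ≠ 1 := by
      rintro rfl
      rw [orderOf_one] at hτ
      omega
    have h3 : ({1, τ} : Set G) ⊆ (C : Set G) := by
      intro y hy
      simp only [Set.mem_insert_iff, Set.mem_singleton_iff] at hy
      rcases hy with rfl | rfl
      · exact C.one_mem
      · exact hτC
    have h4 : ({1, τ} : Set G) = (C : Set G) := by
      apply Set.eq_of_subset_of_ncard_le h3
      rw [Set.ncard_pair hτ1.symm]
      have : (C : Set G).ncard = Nat.card C := rfl
      rw [this]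
      rcases h1 with h1 | h1 <;> omega
    have h5 : x ∈ ({1, τ} : Set G) := by rw [h4]; exact hx
    simpa using h5
  rcases h2 z hzC with h3 | h3
  · rw [h3, orderOf_one] at hz2
    omega
  · exact hτz h3.symm

end Cfsg.Agent.H322.ThreeP
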