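import Cfsg.Agent.H322.ThreeP.One
import Cfsg.Agent.H322.ThreeP.FixB
import Cfsg.Agent.H322.ThreeP.Groups
import Cfsg.Agent.H322.ThreeP.Dick
import Cfsg.Agent.S3224
import Cfsg.Agent.S0483
import Cfsg.Agent.S0507
import Cfsg.Agent.S0254
import Cfsg.Agent.TypeL3.SimpleCase
import Cfsg.Agent.H656.DihedralSimple

/-!
# The second case for primitive groups
-/

set_option autoImplicit false
set_option linter.unusedSectionVars false

open Cfsg Cfsg.Agent.H656.DihedralP

namespace Cfsg.Agent.H322.ThreeP

theorem isKleinFour_of_card {S : Type*} [Group S] [Finite S] (h4 : Nat.card S = 4) {a b : S}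
    (ha : orderOf a = 2) (hb : orderOf b = 2) (hab : a ≠ b) : IsKleinFour S := by
  classical
  letI : Fintype S := Fintype.ofFinite S
  have ha1 : a ≠ 1 := by
    rintro rfl
    rw [orderOf_one] at ha
    omega
  have hb1 : b ≠ 1 := by
    rintro rfl
    rw [orderOf_one] at hb
    omega
  have hnc : ¬ IsCyclic S := by
    intro hc
    have h1 := IsCyclic.card_pow_eq_one_le (α := S) (n := 2) two_pos
    have h2 : ({1, a, b} : Finset S) ⊆ Finset.univ.filter fun x : S => x ^ 2 = 1 := by
      intro x hx
      simp only [Finset.mem_insert, Finset.mem_singleton] at hx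
      rw [Finset.mem_filter]
      refine ⟨Finset.mem_univ _, ?_⟩
      rcases hx with rfl | rfl | rfl
      · exact one_pow 2
      · rw [← ha]; exact pow_orderOf_eq_one _
      · rw [← hb]; exact pow_orderOf_eq_one _
    have h3 := Finset.card_le_card h2
    rw [Finset.card_insert_of_notMem (by simp [ha1.symm, hb1.symm]), Finset.card_pair hab] at h3
    omega
  have hsq : ∀ s : S, s ^ 2 = 1 := by
    intro s
    have h1 : orderOf s ∣ 4 := by
      rw [← h4]
      exact orderOf_dvd_natCard s
    have h2 : orderOf s ≠ 4 := by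
      intro h3
      exact hnc (isCyclic_of_orderOf_eq_card s (by rw [h3, h4]))
    have h3 : orderOf s ∣ 2 := by
      have h5 : orderOf s ≤ 4 := Nat.le_of_dvd (by norm_num) h1
      interval_cases orderOf s <;> omega
    exact orderOf_dvd_iff_pow_eq_one.mp h3
  refine ⟨h4, ?_⟩
  have h1 : Monoid.exponent S ∣ 2 := Monoid.exponent_dvd_of_forall_pow_eq_one hsq
  rcases (Nat.dvd_prime Nat.prime_two).mp h1 with h2 | h2
  · exfalso
    apply ha1
    have := Monoid.pow_exponent_eq_one a
    rwa [h2, pow_one] at this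
  · exact h2

theorem isPerfect_of_simple {G : Type*} [Group G] [IsSimpleGroup G] (hna : ∃ a b : G, a * b ≠ b * a) :
    Group.IsPerfect G := by
  rw [Group.isPerfect_def]
  rcases (inferInstance : (commutator G).Normal).eq_bot_or_eq_top with h | h
  · exfalso
    obtain ⟨a, b, hab⟩ := hna
    apply hab
    rw [commutator_eq_bot_iff_center_eq_top] at h
    have h1 : a ∈ Subgroup.center G := by rw [h]; exact Subgroup.mem_top a
    exact (Subgroup.mem_center_iff.mp h1 b).symm
  · exact h

universe u

variable {G : Type u} [Group G] [Finite G]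

/-- order `60` and index `15` -/
theorem not_primitive_sixty [IsSimpleGroup G] {Ω : Type*} [Fintype Ω] [MulAction G Ω]
    [MulAction.IsPretransitive G Ω] (hG : Nat.card G = 60) (hΩ : Fintype.card Ω = 15)
    (hprim : MulAction.IsPreprimitive G Ω) : False := by
  have : Fact (Nat.Prime 2) := ⟨Nat.prime_two⟩
  obtain ⟨a₀⟩ : Nonempty Ω := by
    rw [← Fintype.card_pos_iff, hΩ]
    norm_num
  set H := MulAction.stabilizer G a₀ with hH
  have hidx : H.index = 15 := by
    rw [hH, MulAction.index_stabilizer_of_transitive, Nat.card_eq_fintype_card, hΩ]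
  have hHcard : Nat.card H = 4 := by
    have h1 := H.index_mul_card
    rw [hidx, hG] at h1
    omega
  have hfac : (60 : ℕ).factorization 2 = 2 := by
    have : (60 : ℕ) = 2 ^ 2 * 15 := rfl
    rw [this, fact_mul (by norm_num) (by norm_num), Nat.prime_two.factorization_pow,
      Finsupp.single_eq_same, fact_odd (by norm_num : 15 % 2 = 1)]
  let S : Sylow 2 G := Sylow.ofCard H (by rw [hHcard, hG, hfac]; norm_num)
  have hSH : (S : Subgroup G) = H := rfl
  have hnt : Nontrivial Ω := by
    rw [← Fintype.one_lt_card_iff_nontrivial, hΩ]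
    norm_num
  have hco : IsCoatom H := (MulAction.isCoatom_stabilizer_iff_preprimitive G a₀).mpr hprim
  have hnn : ¬ H.Normal := by
    intro hn
    rcases hn.eq_bot_or_eq_top with h1 | h1
    · rw [h1, Subgroup.card_bot] at hHcard
      omega
    · rw [h1, Subgroup.card_top, hG] at hHcard
      omega
  have hN : Subgroup.normalizer (H : Set G) = H := by
    rcases hco.le_iff.mp (Subgroup.le_normalizer (H := H)) with h1 | h1
    · exact absurd (Subgroup.normalizer_eq_top_iff.mp h1) hnn
    · exact h1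
  have hcomm : ∀ x y : H, x * y = y * x := by
    have h1 : IsPGroup 2 H := IsPGroup.of_card (n := 2) (by rw [hHcard]; norm_num)
    letI := IsPGroup.commGroupOfCardEqPrimeSq (p := 2) (G := H) (by rw [hHcard]; norm_num)
    intro x y
    exact mul_comm x y
  apply hnn
  have h2 := Cfsg.Agent.H656.DihedralSimple.normal_of_normalizer_le S (by
    rw [hSH, hN]
    intro x hx
    rw [Subgroup.mem_centralizer_iff]
    intro y hy
    exact congrArg Subtype.val (hcomm ⟨y, hy⟩ ⟨x, hx⟩))
  rwa [hSH] at h2

variable {p : ℕ} [Fact p.Prime] {P : Sylow p G}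
variable {Ω : Type*} [Fintype Ω] [MulAction G Ω] [MulAction.IsPretransitive G Ω]

theorem caseB [IsSimpleGroup G] (hna : ∃ a b : G, a * b ≠ b * a) (h : Hyp P)
    (hΩ : Fintype.card Ω = 3 * p) {x : G}
    (hx : x ∈ Subgroup.normalizer ((P : Subgroup G) : Set G)) (hxP : x ∉ (P : Subgroup G))
    (hf3 : Nat.card (MulAction.fixedBy Ω x) = 3) (hA : ¬ CaseA G Ω)
    (hprim : MulAction.IsPreprimitive G Ω) : p = 5 ∧ Nonempty (G ≃* alternatingGroup (Fin 6)) := by
  have hpp : p.Prime := Fact.out
  have hp5 := h.five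
  have hx2 := h.orderOf_eq_two hx hxP
  have hconj := isConj_all h
  have hf : ∀ b : G, orderOf b = 2 → Nat.card (MulAction.fixedBy Ω b) = 3 := by
    intro b hb
    rw [← hf3]
    exact card_fixedBy_conj (hconj b x hb hx2)
  have h2G : 2 ∣ Nat.card G := by
    rw [← hx2]
    exact orderOf_dvd_natCard x
  have h4G : 4 ∣ Nat.card G := by
    apply Cfsg.Agent.SmallSimple.EvenOrder.four_dvd_card _ h2G
    intro hcomm
    obtain ⟨a, b, hab⟩ := hna
    exact hab (hcomm.is_comm.comm a b)
  have hO := order_cases hna h hΩ hx hxP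
  rw [hf3] at hO
  have hpdvd : p ∣ Nat.card G := by
    have : Nat.card (P : Subgroup G) = p := h.card
    rw [← this]
    exact Subgroup.card_subgroup_dvd_card _
  have hp2 := not_sq_dvd h
  obtain ⟨S, τ, z, hτS, hzS, hτ2, hz2, hτz, hC⟩ := exists_sylow_of_not_caseA hconj hf hA
  have hS4 : 4 ∣ Nat.card (S : Subgroup G) := by
    have h1 : Nat.card (S : Subgroup G) = 2 ^ (Nat.card G).factorization 2 := S.card_eq_multiplicity
    rw [h1]
    have h2 := le_fact (k := 2) Nat.card_pos.ne' h4G
    exact pow_dvd_pow 2 h2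
  have hCS : Nat.card (Subgroup.centralizer ({(⟨τ, hτS⟩ : (S : Subgroup G))} : Set (S : Subgroup G))) = 4 := by
    rw [← hC, ← Subgroup.card_map_of_injective (S : Subgroup G).subtype_injective]
    congr 2
    ext g
    rw [Subgroup.mem_map, Subgroup.mem_inf, Subgroup.mem_centralizer_singleton_iff]
    constructor
    · rintro ⟨s, hs, rfl⟩
      rw [Subgroup.mem_centralizer_singleton_iff] at hs
      exact ⟨s.2, congrArg Subtype.val hs⟩
    · rintro ⟨h1, h2⟩
      refine ⟨⟨g, h1⟩, ?_, rfl⟩
      rw [Subgroup.mem_centralizer_singleton_iff]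
      exact Subtype.ext h2
  have hτ2' : orderOf (⟨τ, hτS⟩ : (S : Subgroup G)) = 2 := by rw [Subgroup.orderOf_mk, hτ2]
  have hz2' : orderOf (⟨z, hzS⟩ : (S : Subgroup G)) = 2 := by rw [Subgroup.orderOf_mk, hz2]
  have hdih : (∃ n : ℕ, 2 ≤ n ∧ Nonempty ((S : Subgroup G) ≃* DihedralGroup n)) ∨
      Cfsg.IsQuasiDihedral (S : Subgroup G) := by
    rcases Cfsg.Agent.S3224.result S.isPGroup' ⟨τ, hτS⟩ hτ2' hCS with ⟨n, ⟨e⟩⟩ | h1 | h1
    · left
      refine ⟨n, ?_, ⟨e⟩⟩
      have h2 := Nat.card_congr e.toEquiv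
      rw [DihedralGroup.nat_card] at h2
      rw [h2] at hS4
      have h3 : 0 < Nat.card (S : Subgroup G) := Nat.card_pos
      omega
    · exact Or.inr h1
    · left
      have hk : IsKleinFour (S : Subgroup G) := isKleinFour_of_card h1 hτ2' hz2'
        (fun he => hτz (congrArg Subtype.val he))
      exact ⟨2, le_refl 2, IsKleinFour.nonempty_mulEquiv⟩
  rcases hdih with ⟨n, hn2, hSn⟩ | hq
  · have hperf := isPerfect_of_simple hna
    have hSbot : (S : Subgroup G) ≠ ⊥ := by
      intro h1
      rw [h1, Subgroup.card_bot] at hS4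
      omega
    have hcore : Cfsg.oddCore G = ⊥ := Cfsg.Agent.TypeL3.oddCore_eq_bot_of_simple S hSbot
    let e0 : G ≃* G ⧸ Cfsg.oddCore G :=
      QuotientGroup.quotientBot.symm.trans (QuotientGroup.quotientMulEquivOfEq hcore.symm)
    rcases Cfsg.Agent.S0483.result S n hn2 hSn with ⟨F, _, _, hodd, h3, ⟨e1⟩⟩ | ⟨⟨e1⟩⟩
    · have e : G ≃* Matrix.ProjectiveSpecialLinearGroup (Fin 2) F := e0.trans e1
      obtain ⟨hcG, hcC⟩ := psl2_card hodd e hx2
      have hpow : IsPrimePow (Fintype.card F) := FiniteField.isPrimePow_card F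
      rcases psl2_odd hpp hp5 hpow h3 hcG hcC hpdvd hp2 hO with ⟨h5, hq5⟩ | hq
      · exfalso
        rw [hq5] at hcG
        refine not_primitive_sixty (G := G) (Ω := Ω) (by omega) (by rw [hΩ, h5]) hprim
      · -- `q = 2 p - 1`
        have hqodd := Nat.odd_iff.mp hodd
        set q := Fintype.card F with hqdef
        obtain ⟨a₀⟩ : Nonempty Ω := by
          rw [← Fintype.card_pos_iff, hΩ]
          omega
        set H := MulAction.stabilizer G a₀ with hH
        have h6 := card_stab_mul hΩ a₀ (G := G)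
        have hsq : q ^ 2 - 1 = (q + 1) * (q - 1) := by
          have := Nat.sq_sub_sq q 1
          rwa [one_pow] at this
        have h7 : 3 * Nat.card H = q * (q - 1) := by
          apply Nat.eq_of_mul_eq_mul_left (show 0 < 2 * p by omega)
          calc 2 * p * (3 * Nat.card H) = 2 * (3 * p * Nat.card H) := by ring
            _ = 2 * Nat.card G := by rw [h6]
            _ = q * ((q + 1) * (q - 1)) := by rw [hcG, hsq]
            _ = (q + 1) * (q * (q - 1)) := by ring
            _ = 2 * p * (q * (q - 1)) := by rw [hq]; congr 1; omega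
        have hsimp : IsSimpleGroup (Matrix.ProjectiveSpecialLinearGroup (Fin 2) F) :=
          e.symm.isSimpleGroup
        have h8 : q = 9 := by
          refine dickson (F := F) rfl hodd (by omega) hsimp (H.map e.toMonoidHom) ?_
          rw [Subgroup.card_map_of_injective e.injective]
          exact h7
        refine ⟨by omega, ?_⟩
        obtain ⟨e2⟩ := Cfsg.Agent.S0254.result (F := F) h8
        exact ⟨e.trans e2⟩
    · exfalso
      have h1 : Nat.card G = 2520 := by
        rw [Nat.card_congr (e0.trans e1).toEquiv, nat_card_alternatingGroup,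
          Nat.card_eq_fintype_card (α := Fin 7), Fintype.card_fin]
        decide
      rw [h1] at hO hpdvd
      exact not_orders_2520 hpp hp5 hpdvd hO
  · exfalso
    rcases Cfsg.Agent.S0507.result S hq with ⟨F, _, _, hF, ⟨e⟩⟩ | ⟨F, _, _, q, hF, hq4, ⟨e⟩⟩ | ⟨-, h1⟩
    · exact not_psl3 hpp hp5 hF e hx2 hO
    · exact not_psu3 hpp hp5 hF (Nat.odd_iff.mpr (by omega)) e hx2 hO
    · rw [h1] at hO hpdvd
      exact not_orders_7920 hpp hp5 hpdvd hO

end Cfsg.Agent.H322.ThreeP
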