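import Mathlib
import Cfsg.Prelude.Def_Involutions
import Cfsg.Agent.PermutationGroups.TwoTransitiveNormal

/-!
# Permutation groups in which every involution has exactly one or exactly three fixed points
-/

set_option autoImplicit false
set_option linter.unusedSectionVars false

open Cfsg Pointwise MulAction

namespace Cfsg.Agent.H322.ThreeP

variable {G : Type*} [Group G] [Finite G] {Ω : Type*} [Fintype Ω] [MulAction G Ω]

theorem exists_pow_two {S : Subgroup G} (hS : IsPGroup 2 S) {s : G} (hs : s ∈ S) (hs1 : s ≠ 1) :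
    ∃ k : ℕ, orderOf (s ^ k) = 2 := by
  obtain ⟨n, hn⟩ := (IsPGroup.iff_orderOf.mp hS) ⟨s, hs⟩
  rw [Subgroup.orderOf_mk] at hn
  have hn0 : n ≠ 0 := by
    rintro rfl
    rw [pow_zero, orderOf_eq_one_iff] at hn
    exact hs1 hn
  refine ⟨2 ^ (n - 1), ?_⟩
  rw [orderOf_pow_of_dvd (by positivity) (by rw [hn]; exact pow_dvd_pow 2 (by omega)), hn]
  obtain ⟨m, rfl⟩ : ∃ m, n = m + 1 := ⟨n - 1, by omega⟩
  rw [Nat.add_sub_cancel, pow_succ]
  exact Nat.mul_div_cancel_left 2 (by positivity)

/-- A `2`-group all of whose involutions have the same fixed point set `T` is semiregular outside `T`. -/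
theorem card_dvd_of_fixedBy {S : Subgroup G} (hS : IsPGroup 2 S) {T : Set Ω} {z : G} (hz : z ∈ S)
    (hz2 : orderOf z = 2) (hT : ∀ u ∈ S, orderOf u = 2 → fixedBy Ω u = T) :
    Nat.card S ∣ Fintype.card Ω - T.ncard := by
  have h1 : Nat.card S ∣ (Tᶜ : Set Ω).ncard := by
    refine Cfsg.Agent.PermutationGroups.TwoTransitiveNormal.dvd_ncard_of_index_stabilizer_eq (G := S)
      (Set.toFinite _) ?_ ?_
    · intro g x hx hgx
      apply hx
      have h2 : orderOf ((g : G) * z * (g : G)⁻¹) = 2 := by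
        rw [← hz2]
        exact (MulAut.conj (g : G)).orderOf_eq z
      have h3 := hT _ (S.mul_mem (S.mul_mem g.2 hz) (S.inv_mem g.2)) h2
      rw [← smul_fixedBy, hT z hz hz2] at h3
      rw [← h3, Subgroup.smul_def] at hgx
      exact (Set.smul_mem_smul_set_iff.mp hgx)
    · intro x hx
      have h2 : stabilizer S x = ⊥ := by
        rw [Subgroup.eq_bot_iff_forall]
        intro s hs
        by_contra hs1
        apply hx
        obtain ⟨k, hk⟩ := exists_pow_two hS s.2 (fun h => hs1 (Subtype.ext h))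
        rw [← hT _ (S.pow_mem s.2 k) hk]
        have h3 : s ^ k ∈ stabilizer S x := Subgroup.pow_mem _ hs k
        exact h3
      rw [h2, Subgroup.index_bot]
  have h2 : (Tᶜ : Set Ω).ncard = Fintype.card Ω - T.ncard := by
    rw [Set.ncard_compl, Nat.card_eq_fintype_card]
  rwa [h2] at h1

theorem exists_central (S : Sylow 2 G) (h2G : 2 ∣ Nat.card G) :
    ∃ z ∈ (S : Subgroup G), orderOf z = 2 ∧ ∀ s ∈ (S : Subgroup G), s * z = z * s := by
  have : Fact (Nat.Prime 2) := ⟨Nat.prime_two⟩
  have hS : (S : Subgroup G) ≠ ⊥ := by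
    intro hS
    have h1 := S.card_eq_multiplicity
    have h2 : Nat.card S = 1 := by
      have : Nat.card (S : Subgroup G) = 1 := by rw [hS, Subgroup.card_bot]
      exact this
    rw [h2] at h1
    have h3 : (Nat.card G).factorization 2 = 0 := by
      by_contra hne
      have : 2 ≤ 2 ^ (Nat.card G).factorization 2 := Nat.le_self_pow hne 2
      omega
    rw [Nat.factorization_eq_zero_iff] at h3
    rcases h3 with h3 | h3 | h3
    · exact h3 Nat.prime_two
    · exact h3 h2G
    · exact Nat.card_pos.ne' h3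
  have hnt : Nontrivial (S : Subgroup G) := (Subgroup.nontrivial_iff_ne_bot _).mpr hS
  have hcn := S.isPGroup'.center_nontrivial
  obtain ⟨z, hz⟩ := exists_ne (1 : Subgroup.center (S : Subgroup G))
  have h1 : IsPGroup 2 (Subgroup.center (S : Subgroup G)) := S.isPGroup'.to_subgroup _
  have h2 : 2 ∣ Nat.card (Subgroup.center (S : Subgroup G)) := by
    obtain ⟨n, hn⟩ := IsPGroup.iff_card.mp h1
    rw [hn]
    apply dvd_pow_self
    rintro rfl
    rw [pow_zero] at hn
    have := (Nat.card_eq_one_iff_unique.mp hn).1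
    exact hz (Subsingleton.elim _ _)
  obtain ⟨w, hw⟩ := exists_prime_orderOf_dvd_card' 2 h2
  refine ⟨((w : (S : Subgroup G)) : G), w.1.2, ?_, ?_⟩
  · rw [Subgroup.orderOf_coe, Subgroup.orderOf_coe, hw]
  · intro s hs
    have h3 := Subgroup.mem_center_iff.mp w.2 ⟨s, hs⟩
    exact congrArg Subtype.val h3

theorem mem_stab_of_comm {u z : G} (h : u * z = z * u) : u ∈ stabilizer G (fixedBy Ω z) := by
  rw [mem_stabilizer_iff, smul_fixedBy, h, mul_inv_cancel_right]

/-- one fixed point -/
theorem card_dvd_one (hf : ∀ b : G, orderOf b = 2 → Nat.card (fixedBy Ω b) = 1) (h2G : 2 ∣ Nat.card G)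
    (S : Sylow 2 G) : Nat.card (S : Subgroup G) ∣ Fintype.card Ω - 1 := by
  obtain ⟨z, hzS, hz2, hc⟩ := exists_central S h2G
  have h1 : (fixedBy Ω z).ncard = 1 := by
    rw [← Nat.card_coe_set_eq]
    exact hf z hz2
  rw [← h1]
  refine card_dvd_of_fixedBy S.isPGroup' hzS hz2 ?_
  intro u hu hu2
  obtain ⟨a, ha⟩ := Set.ncard_eq_one.mp h1
  have h2 := mem_stab_of_comm (Ω := Ω) (hc u hu)
  rw [mem_stabilizer_iff, ha] at h2
  have h3 : u • a = a := by
    have : u • a ∈ u • ({a} : Set Ω) := Set.smul_mem_smul_set (Set.mem_singleton a)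
    rw [h2] at this
    exact this
  have h4 : (fixedBy Ω u).ncard = 1 := by
    rw [← Nat.card_coe_set_eq]
    exact hf u hu2
  obtain ⟨b, hb⟩ := Set.ncard_eq_one.mp h4
  have h5 : a ∈ fixedBy Ω u := h3
  rw [hb] at h5
  rw [hb, ha, Set.mem_singleton_iff.mp h5]

/-- The involutions in the stabilizer of the fixed point set of an involution have the same fixed point set. -/
def CaseA (G : Type*) [Group G] (Ω : Type*) [MulAction G Ω] : Prop :=
  ∀ z b : G, orderOf z = 2 → orderOf b = 2 → b ∈ stabilizer G (fixedBy Ω z) → fixedBy Ω b = fixedBy Ω z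

theorem card_dvd_three (hf : ∀ b : G, orderOf b = 2 → Nat.card (fixedBy Ω b) = 3) (h2G : 2 ∣ Nat.card G)
    (hA : CaseA G Ω) (S : Sylow 2 G) : Nat.card (S : Subgroup G) ∣ Fintype.card Ω - 3 := by
  obtain ⟨z, hzS, hz2, hc⟩ := exists_central S h2G
  have h1 : (fixedBy Ω z).ncard = 3 := by
    rw [← Nat.card_coe_set_eq]
    exact hf z hz2
  rw [← h1]
  refine card_dvd_of_fixedBy S.isPGroup' hzS hz2 ?_
  intro u hu hu2
  exact hA z u hz2 hu2 (mem_stab_of_comm (hc u hu))

theorem isStronglyEmbedded_of_caseA [IsPretransitive G Ω]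
    (hf : ∀ b : G, orderOf b = 2 → Nat.card (fixedBy Ω b) = 3) (hΩ : 3 < Fintype.card Ω)
    (hA : CaseA G Ω) {z : G} (hz : orderOf z = 2) :
    IsStronglyEmbedded (stabilizer G (fixedBy Ω z)) := by
  have h3 : (fixedBy Ω z).ncard = 3 := by
    rw [← Nat.card_coe_set_eq]
    exact hf z hz
  refine ⟨?_, ?_, ?_⟩
  · intro htop
    obtain ⟨a, ha⟩ : (fixedBy Ω z).Nonempty := by
      rw [Set.nonempty_iff_ne_empty]
      intro he
      rw [he] at h3
      simp at h3
    have hne : ∃ b, b ∉ fixedBy Ω z := by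
      by_contra hcon
      push Not at hcon
      have : fixedBy Ω z = Set.univ := Set.eq_univ_of_forall hcon
      rw [this, Set.ncard_univ, Nat.card_eq_fintype_card] at h3
      omega
    obtain ⟨b, hb⟩ := hne
    obtain ⟨g, rfl⟩ := exists_smul_eq G a b
    have h4 : g ∈ stabilizer G (fixedBy Ω z) := by rw [htop]; exact Subgroup.mem_top g
    rw [mem_stabilizer_iff] at h4
    apply hb
    rw [← h4]
    exact Set.smul_mem_smul_set ha
  · have h4 : z ∈ stabilizer G (fixedBy Ω z) := mem_stab_of_comm rfl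
    rw [even_iff_two_dvd, ← hz, ← Subgroup.orderOf_mk _ h4]
    exact orderOf_dvd_natCard _
  · intro g hg
    rw [← Nat.not_even_iff_odd, even_iff_two_dvd]
    intro hdvd
    obtain ⟨⟨t, ht⟩, ht2⟩ := exists_prime_orderOf_dvd_card' 2 hdvd
    rw [Subgroup.orderOf_mk] at ht2
    rw [Subgroup.mem_inf] at ht
    obtain ⟨ht1, s, hs, hst⟩ := ht
    have hst' : g * s * g⁻¹ = t := hst
    have hs2 : orderOf s = 2 := by
      rw [← ht2, ← hst']
      exact ((MulAut.conj g).orderOf_eq s).symm
    have h5 := hA z t hz ht2 ht1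
    have h6 := hA z s hz hs2 hs
    apply hg
    rw [mem_stabilizer_iff, ← h6, smul_fixedBy, hst', h5, h6]

end Cfsg.Agent.H322.ThreeP
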