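import Cfsg.Agent.H322.ThreeP.CaseA
import Cfsg.Agent.H322.ThreeP.CaseB
import Cfsg.Agent.S4706
import Cfsg.Agent.H656.DihedralSimple
import Cfsg.Agent.WeakTI.PslTwo

/-!
# Imprimitive simple groups of degree `3 p`
-/

set_option autoImplicit false
set_option linter.unusedSectionVars false

open Cfsg

namespace Cfsg.Agent.H322.ThreeP

universe u

/-- the coset action of a simple group -/
theorem toPermHom_injective {G : Type u} [Group G] [IsSimpleGroup G] (L : Subgroup G) (hL : L ≠ ⊤) :
    Function.Injective (MulAction.toPermHom G (G ⧸ L)) := by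
  rw [← MonoidHom.ker_eq_bot_iff, ← Subgroup.normalCore_eq_ker]
  rcases (inferInstance : L.normalCore.Normal).eq_bot_or_eq_top with h | h
  · exact h
  · exfalso
    apply hL
    rw [eq_top_iff, ← h]
    exact Subgroup.normalCore_le L

/-- a subgroup of prime index in a simple group with Sylow normalizer of order `2 p` -/
theorem of_index_eq {G : Type u} [Group G] [Finite G] [IsSimpleGroup G] {p : ℕ} [Fact p.Prime]
    (hp3 : 3 < p) (P : Sylow p G)
    (hN : Nat.card ↥(Subgroup.normalizer ((P : Subgroup G) : Set G)) = 2 * p)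
    (hnn : ¬ (P : Subgroup G).Normal) (L : Subgroup G) (hL : L.index = p) :
    ∃ (F : Type) (_ : Field F) (_ : Fintype F) (m : ℕ), Fintype.card F = 2 ^ m ∧ p = 2 ^ m + 1 ∧
        Nonempty (G ≃* Matrix.ProjectiveSpecialLinearGroup (Fin 2) F) := by
  classical
  have hpp : p.Prime := Fact.out
  have hLtop : L ≠ ⊤ := by
    rintro rfl
    rw [Subgroup.index_top] at hL
    omega
  have hinj := toPermHom_injective L hLtop
  letI : Fintype (G ⧸ L) := Fintype.ofFinite _
  let e : G ≃* (MulAction.toPermHom G (G ⧸ L)).range := MonoidHom.ofInjective hinj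
  set G' := (MulAction.toPermHom G (G ⧸ L)).range with hG'
  have hcard : Nat.card G' = Nat.card G := (Nat.card_congr e.toEquiv).symm
  have hPc : Nat.card ((P : Subgroup G).map e.toMonoidHom) = Nat.card (P : Subgroup G) :=
    Subgroup.card_map_of_injective e.injective
  let P' : Sylow p G' := Sylow.ofCard ((P : Subgroup G).map e.toMonoidHom) (by
    rw [hPc, hcard]
    exact P.card_eq_multiplicity)
  have hP' : (P' : Subgroup G') = (P : Subgroup G).map e.toMonoidHom := rfl
  have hnorm : Subgroup.normalizer ((P' : Subgroup G') : Set G') =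
      (Subgroup.normalizer ((P : Subgroup G) : Set G)).map e.toMonoidHom := by
    rw [hP']
    exact (Subgroup.map_equiv_normalizer_eq (P : Subgroup G) e).symm
  have hN' : Nat.card (Subgroup.normalizer ((P' : Subgroup G') : Set G')) = 2 * p := by
    rw [hnorm, Subgroup.card_map_of_injective (f := e.toMonoidHom) e.injective]
    exact hN
  have hα : Fintype.card (G ⧸ L) = p := by
    rw [← Nat.card_eq_fintype_card]
    exact hL
  rcases Cfsg.Agent.S4706.result (by omega) hα G' P' hN' with h | ⟨a, F, _, _, hp, hF, ⟨e2⟩⟩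
  · exfalso
    apply hnn
    have h1 : ((P' : Subgroup G').comap e.toMonoidHom).Normal := h.comap _
    rwa [hP', Subgroup.comap_map_eq_self_of_injective e.injective] at h1
  · have ha : a ≠ 0 := by
      rintro rfl
      omega
    have hchar : CharP F 2 := by
      obtain ⟨r, hr⟩ := CharP.exists F
      have hrp : r.Prime := CharP.char_is_prime F r
      have : Fact r.Prime := ⟨hrp⟩
      obtain ⟨n, -, hn⟩ := FiniteField.card F r
      rw [hF] at hn
      have h1 : r ∣ 2 ^ a := by
        rw [hn]
        exact dvd_pow_self r n.ne_zero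
      have h2 : r = 2 := (Nat.prime_dvd_prime_iff_eq hrp Nat.prime_two).mp (hrp.dvd_of_dvd_pow h1)
      rw [h2] at hr
      exact hr
    obtain ⟨e3⟩ := Cfsg.Agent.WeakTI.PslTwo.nonempty_equiv (F := F)
    exact ⟨F, _, _, a, hF, hp, ⟨e.trans (e2.trans e3)⟩⟩

end Cfsg.Agent.H322.ThreeP
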