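import Cfsg.Agent.H322.ThreeP.TwoPart
import Cfsg.Agent.S0222
import Cfsg.Agent.H656.BenderArith
import Cfsg.Agent.SmallSimple.EvenOrder

/-!
# Exclusion of the case in which the involutions have one fixed point
-/

set_option autoImplicit false
set_option linter.unusedSectionVars false

open Cfsg Cfsg.Agent.H656.DihedralP

namespace Cfsg.Agent.H322.ThreeP

theorem psl_one {p n c q m : ℕ} (hp : p.Prime) (hp5 : 5 ≤ p) (hq : q = 2 ^ m) (hq4 : 4 ≤ q)
    (hn : n = q * (q ^ 2 - 1)) (hdvd : p ∣ n) (h : p * (3 * p - 2) * c ^ 2 = n * (3 * p - 1))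
    (hqd : q ∣ 3 * p - 1) : False := by
  have h1 : ¬ p ∣ q := by
    rw [hq]
    intro h1
    have := Nat.le_of_dvd (by norm_num) (hp.dvd_of_dvd_pow h1)
    omega
  have h2 : q ^ 2 - 1 = (q + 1) * (q - 1) := by
    have := Nat.sq_sub_sq q 1
    rwa [one_pow] at this
  have h3 : p ∣ (q + 1) * (q - 1) := by
    rw [hn] at hdvd
    rw [← h2]
    exact (hp.dvd_mul.mp hdvd).resolve_left h1
  obtain ⟨j, hj⟩ := hqd
  rcases hp.dvd_mul.mp h3 with ⟨l, hl⟩ | ⟨l, hl⟩
  · -- `q + 1 = p l`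
    have h4 : l * (3 * p - 1) = 3 * (q + 1) - l := by
      rw [Nat.mul_sub, mul_one, hl]
      congr 1
      ring
    have hl0 : 1 ≤ l := by
      rcases Nat.eq_zero_or_pos l with h0 | h0
      · rw [h0] at hl
        omega
      · exact h0
    have h5 : l * 5 ≤ q + 1 := by
      rw [hl, mul_comm p l]
      exact Nat.mul_le_mul_left _ hp5
    rw [hj] at h4
    have h6 : q ∣ 3 * (q + 1) - l := ⟨l * j, by rw [← h4]; ring⟩
    obtain ⟨k, hk⟩ := h6
    have hk3 : k = 3 ∨ k < 3 ∨ 4 ≤ k := by omega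
    have hl3 : l = 3 := by
      rcases hk3 with hk3 | hk3 | hk3
      · rw [hk3] at hk
        omega
      · have : q * k ≤ q * 2 := Nat.mul_le_mul_left _ (by omega)
        omega
      · have : q * 4 ≤ q * k := Nat.mul_le_mul_left _ hk3
        omega
    subst hl3
    have hq1 : q = 3 * p - 1 := by omega
    have h7 : n = (3 * p - 1) * ((3 * p) * (3 * p - 2)) := by
      rw [hn, h2, hq1]
      congr 2
      omega
    rw [h7] at h
    have hpos : 0 < p * (3 * p - 2) := Nat.mul_pos (by omega) (by omega)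
    have h8 : c ^ 2 = 3 * (3 * p - 1) ^ 2 := by
      apply Nat.eq_of_mul_eq_mul_left hpos
      rw [h]
      ring
    have h9 : 3 ∣ c := Nat.prime_three.dvd_of_dvd_pow (h8 ▸ Dvd.intro _ rfl)
    obtain ⟨b, rfl⟩ := h9
    have h10 : 3 * b ^ 2 = (3 * p - 1) ^ 2 := by
      have : 3 * (3 * b ^ 2) = 3 * (3 * p - 1) ^ 2 := by rw [← h8]; ring
      omega
    have h11 : 3 ∣ 3 * p - 1 := Nat.prime_three.dvd_of_dvd_pow (h10 ▸ Dvd.intro _ rfl)
    omega
  · -- `q - 1 = p l`
    have h4 : l * (3 * p - 1) = 3 * (q - 1) - l := by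
      rw [Nat.mul_sub, mul_one, hl]
      congr 1
      ring
    have h5 : l * 5 ≤ q - 1 := by
      rw [hl, mul_comm p l]
      exact Nat.mul_le_mul_left _ hp5
    have hl0 : 1 ≤ l := by
      rcases Nat.eq_zero_or_pos l with h0 | h0
      · rw [h0] at hl
        omega
      · exact h0
    rw [hj] at h4
    have h6 : q ∣ 3 * (q - 1) - l := ⟨l * j, by rw [← h4]; ring⟩
    obtain ⟨k, hk⟩ := h6
    have hk3 : k ≤ 2 ∨ 3 ≤ k := by omega
    rcases hk3 with hk3 | hk3
    · have : q * k ≤ q * 2 := Nat.mul_le_mul_left _ hk3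
      omega
    · have : q * 3 ≤ q * k := Nat.mul_le_mul_left _ hk3
      omega

theorem psu_one {p k : ℕ} (hp : p.Prime) (hp5 : 5 ≤ p) (hk : 2 ≤ k) {N : ℕ}
    (hN : Nat.gcd 3 (2 ^ k + 1) * N =
      (2 ^ k) ^ 3 * ((2 ^ k - 1) * ((2 ^ k + 1) ^ 2 * ((2 ^ k - 1) ^ 2 + (2 ^ k - 1) + 1))))
    (h2 : 2 ^ N.factorization 2 ∣ 3 * p - 1) (hdvd : p ∣ N) : False := by
  have hq4 : 4 ≤ 2 ^ k := by
    calc 4 = 2 ^ 2 := by norm_num
      _ ≤ 2 ^ k := Nat.pow_le_pow_right (by norm_num) hk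
  have hN0 : N ≠ 0 := by
    rintro rfl
    rw [mul_zero] at hN
    have : 0 < (2 ^ k) ^ 3 * ((2 ^ k - 1) * ((2 ^ k + 1) ^ 2 * ((2 ^ k - 1) ^ 2 + (2 ^ k - 1) + 1))) := by
      have : 0 < 2 ^ k - 1 := by omega
      positivity
    omega
  have h3 : 2 ^ (k * 3) ∣ N := by
    have h4 : 2 ^ (k * 3) ∣ Nat.gcd 3 (2 ^ k + 1) * N := by
      rw [hN, pow_mul]
      exact Dvd.intro _ rfl
    refine (Nat.Coprime.dvd_of_dvd_mul_left ?_ h4)
    apply Nat.Coprime.pow_left
    apply Nat.Coprime.coprime_dvd_right (Nat.gcd_dvd_left 3 (2 ^ k + 1))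
    norm_num
  have h4 : 2 ^ (k * 3) ∣ 3 * p - 1 := (pow_dvd_pow 2 (le_fact hN0 h3)).trans h2
  rw [pow_mul] at h4
  have h5 : (2 ^ k) ^ 3 ≤ 3 * p - 1 := Nat.le_of_dvd (by omega) h4
  have h6 : p ∣ (2 ^ k) ^ 3 * ((2 ^ k - 1) * ((2 ^ k + 1) ^ 2 * ((2 ^ k - 1) ^ 2 + (2 ^ k - 1) + 1))) := by
    rw [← hN]
    exact Dvd.dvd.mul_left hdvd _
  generalize 2 ^ k = q at *
  obtain ⟨t, rfl⟩ : ∃ t, q = t + 4 := ⟨q - 4, by omega⟩
  have e1 : t + 4 - 1 = t + 3 := by omega
  rw [e1] at h6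
  have h7 : (t + 4) ^ 3 < 3 * p := by omega
  rcases hp.dvd_mul.mp h6 with h | h
  · have := Nat.le_of_dvd (by positivity) (hp.dvd_of_dvd_pow h)
    nlinarith
  rcases hp.dvd_mul.mp h with h | h
  · have := Nat.le_of_dvd (by positivity) h
    nlinarith
  rcases hp.dvd_mul.mp h with h | h
  · have := Nat.le_of_dvd (by positivity) (hp.dvd_of_dvd_pow h)
    nlinarith
  · have := Nat.le_of_dvd (by positivity) h
    nlinarith

theorem suzuki_not_three (m : ℕ) :
    ¬ 3 ∣ (2 ^ (2 * m + 1)) ^ 2 * ((2 ^ (2 * m + 1)) ^ 2 + 1) * (2 ^ (2 * m + 1) - 1) := by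
  have h0 : 2 ^ (2 * m + 1) % 3 = 2 := by
    rw [pow_succ, pow_mul, Nat.mul_mod, Nat.pow_mod]
    norm_num
  have h1 : (2 ^ (2 * m + 1)) ^ 2 % 3 = 1 := by
    rw [Nat.pow_mod, h0]
  generalize 2 ^ (2 * m + 1) = q at *
  rw [Nat.prime_three.dvd_mul, Nat.prime_three.dvd_mul]
  rintro ((h | h) | h)
  · omega
  · omega
  · omega

universe u

variable {G : Type u} [Group G] [Finite G] {p : ℕ} [Fact p.Prime] {P : Sylow p G}
variable {Ω : Type*} [Fintype Ω] [MulAction G Ω] [MulAction.IsPretransitive G Ω]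

theorem isConj_all [IsSimpleGroup G] (h : Hyp P) (a b : G) (ha : orderOf a = 2) (hb : orderOf b = 2) :
    IsConj a b := by
  obtain ⟨x, hx, hxP⟩ := h.exists_not_mem
  exact (Data.isConj_of_involution h hx hxP ha).symm.trans (Data.isConj_of_involution h hx hxP hb)

theorem card_fixedBy_conj {a b : G} (hab : IsConj a b) :
    Nat.card (MulAction.fixedBy Ω a) = Nat.card (MulAction.fixedBy Ω b) := by
  obtain ⟨g, hg⟩ := isConj_iff.mp hab
  rw [← hg, ← MulAction.smul_fixedBy, Nat.card_coe_set_eq, Nat.card_coe_set_eq]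
  exact (Set.ncard_smul_set g _).symm

theorem one_false [IsSimpleGroup G] (hna : ∃ a b : G, a * b ≠ b * a) (h : Hyp P)
    (hΩ : Fintype.card Ω = 3 * p) {x : G}
    (hx : x ∈ Subgroup.normalizer ((P : Subgroup G) : Set G)) (hxP : x ∉ (P : Subgroup G))
    (hf1 : Nat.card (MulAction.fixedBy Ω x) = 1) : False := by
  have hpp : p.Prime := Fact.out
  have hp5 := h.five
  have hx2 := h.orderOf_eq_two hx hxP
  have hconj := isConj_all h
  have hf : ∀ b : G, orderOf b = 2 → Nat.card (MulAction.fixedBy Ω b) = 1 := by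
    intro b hb
    rw [← hf1]
    exact card_fixedBy_conj (hconj b x hb hx2)
  obtain ⟨a₀⟩ : Nonempty Ω := by
    rw [← Fintype.card_pos_iff, hΩ]
    omega
  have hse := Cfsg.Agent.H656.PermSetup.isStronglyEmbedded (G := G) a₀ (by rw [hΩ]; omega) hx2 hf
  have h2G : 2 ∣ Nat.card G := by
    rw [← hx2]
    exact orderOf_dvd_natCard x
  have h4G : 4 ∣ Nat.card G := by
    apply Cfsg.Agent.SmallSimple.EvenOrder.four_dvd_card _ h2G
    intro hcomm
    obtain ⟨a, b, hab⟩ := hna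
    exact hab (hcomm.is_comm.comm a b)
  obtain ⟨S⟩ : Nonempty (Sylow 2 G) := inferInstance
  have hdS := card_dvd_one hf h2G S
  have hScard : Nat.card (S : Subgroup G) = 2 ^ (Nat.card G).factorization 2 := S.card_eq_multiplicity
  rw [hScard, hΩ] at hdS
  have hO := order_cases hna h hΩ hx hxP
  rw [hf1] at hO
  have hfac := factorization_centralizer hconj hx2
  have hcases := one_fact hpp hp5 hO hfac h4G Nat.card_pos.ne' Nat.card_pos.ne' hdS
  have hpdvd : p ∣ Nat.card G := by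
    have : Nat.card (P : Subgroup G) = p := h.card
    rw [← this]
    exact Subgroup.card_subgroup_dvd_card _
  have h3dvd : 3 ∣ Nat.card G := by
    rw [← card_stab_mul hΩ a₀]
    exact ⟨p * Nat.card (MulAction.stabilizer G a₀), by ring⟩
  rcases Cfsg.Agent.S0222.result hna _ hse with ⟨F, _, _, hchar, h4, ⟨e⟩⟩ | ⟨-, m, hm, hcard⟩ |
    ⟨F, _, _, q, hF, hq, h4, ⟨e⟩⟩
  · obtain ⟨n, -, hn⟩ := FiniteField.card F 2
    have heven : Even (Fintype.card F) := by
      rw [hn]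
      exact (Nat.even_pow.mpr ⟨even_two, n.pos.ne'⟩)
    have hcard := Cfsg.Agent.SmallSimple.PSLTwoPart.card_psl_two_even heven
    rw [← Nat.card_congr e.toEquiv] at hcard
    have hq1 : Nat.Coprime 2 ((Fintype.card F) ^ 2 - 1) := by
      rw [Nat.coprime_two_left]
      have h5 : Even ((Fintype.card F) ^ 2) := heven.pow_of_ne_zero two_ne_zero
      have h6 : 1 ≤ (Fintype.card F) ^ 2 := Nat.one_le_pow _ _ (by omega)
      rw [Nat.odd_sub h6]
      simp [h5]
    have hv : (Nat.card G).factorization 2 = n := by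
      rw [hcard, fact_mul (by omega) (by
        have : 4 ^ 2 ≤ (Fintype.card F) ^ 2 := Nat.pow_le_pow_left h4 2
        omega), hn, Nat.prime_two.factorization_pow]
      rw [hn] at hq1
      rw [Finsupp.single_eq_same, fact_odd (by
        have := Nat.coprime_two_left.mp hq1
        exact Nat.odd_iff.mp this), add_zero]
    rcases hcases with ⟨ha2, hp4⟩ | hc3
    · rw [hv] at ha2
      rw [hn, ha2] at hcard
      norm_num at hcard
      rw [hcard] at hpdvd
      have h1 : p ∣ 4 * 3 * 5 := hpdvd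
      rcases hpp.dvd_mul.mp h1 with h1 | h1
      · rcases hpp.dvd_mul.mp h1 with h1 | h1
        · have := Nat.le_of_dvd (by norm_num) h1
          omega
        · have := Nat.le_of_dvd (by norm_num) h1
          omega
      · have := (Nat.prime_dvd_prime_iff_eq hpp (by norm_num)).mp h1
        omega
    · rw [hv, ← hn] at hdS
      exact psl_one hpp hp5 hn h4 hcard hpdvd hc3 hdS
  · exact suzuki_not_three m (hcard ▸ h3dvd)
  · have hF2 : Fintype.card F ≠ 0 := Fintype.card_ne_zero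
    obtain ⟨r, hr⟩ := CharP.exists F
    obtain ⟨n, hrp, hn⟩ := FiniteField.card F r
    have hr2 : r = 2 := by
      have h5 : 2 ∣ r ^ (n : ℕ) := by
        rw [← hn, hF]
        exact (even_iff_two_dvd.mp hq).trans (dvd_pow_self q two_ne_zero)
      exact ((Nat.prime_dvd_prime_iff_eq Nat.prime_two hrp).mp (Nat.prime_two.dvd_of_dvd_pow h5)).symm
    have h5 : ∃ k, q = 2 ^ k := by
      have h6 : q ∣ 2 ^ (n : ℕ) := by
        rw [← hr2, ← hn, hF]
        exact dvd_pow_self q two_ne_zero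
      obtain ⟨k, -, hk⟩ := (Nat.dvd_prime_pow Nat.prime_two).mp h6
      exact ⟨k, hk⟩
    obtain ⟨k, rfl⟩ := h5
    have hk2 : 2 ≤ k := by
      by_contra hcon
      have : 2 ^ k ≤ 2 ^ 1 := Nat.pow_le_pow_right (by norm_num) (by omega)
      omega
    obtain ⟨t, ht⟩ : ∃ t, 2 ^ k = t + 1 := ⟨2 ^ k - 1, by omega⟩
    have hcard := Cfsg.Agent.HKS.EndOrd.card_psu_three (F := F) (t := t) (by rw [hF, ht])
    rw [← ht, ← Nat.card_congr e.toEquiv] at hcard
    refine psu_one hpp hp5 hk2 (N := Nat.card G) ?_ hdS hpdvd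
    have e1 : 2 ^ k - 1 = t := by omega
    have e2 : t + 2 = 2 ^ k + 1 := by omega
    rw [e2] at hcard
    rw [e1]
    exact hcard

end Cfsg.Agent.H322.ThreeP
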