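import Cfsg.Agent.H322.ThreeP.Num
import Cfsg.Agent.H322.ThreeP.Fix
import Cfsg.Agent.Blocks.Basic

/-!
# The `2`-parts in the order formulas
-/

set_option autoImplicit false
set_option linter.unusedSectionVars false

namespace Cfsg.Agent.H322.ThreeP

theorem factorization_centralizer {G : Type*} [Group G] [Finite G]
    (hconj : ∀ a b : G, orderOf a = 2 → orderOf b = 2 → IsConj a b) {x : G} (hx2 : orderOf x = 2) :
    (Nat.card (Subgroup.centralizer ({x} : Set G))).factorization 2 = (Nat.card G).factorization 2 := by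
  have : Fact (Nat.Prime 2) := ⟨Nat.prime_two⟩
  have h2G : 2 ∣ Nat.card G := by
    rw [← hx2]
    exact orderOf_dvd_natCard x
  obtain ⟨S⟩ : Nonempty (Sylow 2 G) := inferInstance
  obtain ⟨z, hzS, hz2, hc⟩ := exists_central S h2G
  have hcard : Nat.card (Subgroup.centralizer ({z} : Set G)) =
      Nat.card (Subgroup.centralizer ({x} : Set G)) := by
    have h1 := Cfsg.Agent.Blocks.Basic.index_centralizer_isConj (hconj x z hx2 hz2)
    have h2 := (Subgroup.centralizer ({z} : Set G)).card_mul_index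
    have h3 := (Subgroup.centralizer ({x} : Set G)).card_mul_index
    rw [← h3, h1] at h2
    refine Nat.eq_of_mul_eq_mul_right (Nat.pos_of_ne_zero ?_) h2
    exact Subgroup.index_ne_zero_of_finite
  have hc0 : Nat.card (Subgroup.centralizer ({x} : Set G)) ≠ 0 := Nat.card_pos.ne'
  apply le_antisymm
  · exact (Nat.factorization_le_iff_dvd hc0 Nat.card_pos.ne').mpr (Subgroup.card_subgroup_dvd_card _) 2
  · have h2 : 2 ^ (Nat.card G).factorization 2 ∣ Nat.card (Subgroup.centralizer ({x} : Set G)) := by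
      rw [← S.card_eq_multiplicity, ← hcard]
      apply Subgroup.card_dvd_of_le
      intro s hs
      rw [Subgroup.mem_centralizer_singleton_iff]
      exact hc s hs
    exact (Nat.prime_two.pow_dvd_iff_le_factorization hc0).mp h2

theorem fact_of_eq {A B n c a : ℕ} (hA : A ≠ 0) (hB : B ≠ 0) (hn : n ≠ 0) (hc : c ≠ 0)
    (h : A * c ^ 2 = n * B) (hc' : c.factorization 2 = a) (hn' : n.factorization 2 = a) :
    A.factorization 2 + a = B.factorization 2 := by
  have h1 : (A * c ^ 2).factorization 2 = (n * B).factorization 2 := by rw [h]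
  rw [Nat.factorization_mul hA (pow_ne_zero _ hc), Nat.factorization_mul hn hB,
    Nat.factorization_pow] at h1
  simp only [Finsupp.coe_add, Pi.add_apply, Finsupp.coe_smul, Pi.smul_apply, smul_eq_mul] at h1
  omega

theorem fact_mul {A B : ℕ} (hA : A ≠ 0) (hB : B ≠ 0) :
    (A * B).factorization 2 = A.factorization 2 + B.factorization 2 := by
  rw [Nat.factorization_mul hA hB]
  rfl

theorem fact_odd {A : ℕ} (hA : A % 2 = 1) : A.factorization 2 = 0 :=
  Nat.factorization_eq_zero_of_not_dvd (by omega)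

theorem le_fact {A k : ℕ} (hA : A ≠ 0) (h : 2 ^ k ∣ A) : k ≤ A.factorization 2 :=
  (Nat.prime_two.pow_dvd_iff_le_factorization hA).mp h

theorem dvd_of_le_fact {A k : ℕ} (hA : A ≠ 0) (h : k ≤ A.factorization 2) : 2 ^ k ∣ A :=
  (Nat.prime_two.pow_dvd_iff_le_factorization hA).mpr h

/-- the `2`-part in the first case with three fixed points -/
theorem caseA_fact {p n c : ℕ} (hp : p.Prime) (hp5 : 5 ≤ p) (h : Orders p n c 3)
    (hfac : c.factorization 2 = n.factorization 2) (h4 : 4 ∣ n) (hn0 : n ≠ 0) (hc0 : c ≠ 0)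
    (hdvd : 2 ^ n.factorization 2 ∣ 3 * p - 3) : n.factorization 2 = (p - 1).factorization 2 := by
  have hodd : p % 2 = 1 := by
    rcases hp.eq_two_or_odd with h2 | h2
    · omega
    · exact h2
  have ha : 2 ≤ n.factorization 2 := le_fact hn0 h4
  have h1 : 2 ^ n.factorization 2 ∣ p - 1 := by
    have h2 : 3 * p - 3 = 3 * (p - 1) := by omega
    rw [h2] at hdvd
    exact (Nat.Coprime.dvd_of_dvd_mul_left (Nat.Coprime.pow_left _ (by norm_num)) hdvd)
  have h2 : n.factorization 2 ≤ (p - 1).factorization 2 := le_fact (by omega) h1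
  have hp0 : p ≠ 0 := by omega
  rcases h with h | h | ⟨h, -⟩ | ⟨-, h⟩ | ⟨-, -, h⟩
  · have h3 := fact_of_eq (mul_ne_zero hp0 (by omega)) (by omega) hn0 hc0 h hfac rfl
    rw [fact_mul hp0 (by omega), fact_odd hodd, fact_odd (by omega : (p - 2) % 2 = 1)] at h3
    omega
  · have h3 := fact_of_eq (mul_ne_zero hp0 (by omega)) (by omega) hn0 hc0 h hfac rfl
    rw [fact_mul hp0 (by omega), fact_odd hodd, fact_odd (by omega : (2 * p - 1) % 2 = 1),
      fact_mul (by norm_num) (by omega)] at h3
    have h5 : (2 : ℕ).factorization 2 = 1 := Nat.prime_two.factorization_self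
    omega
  · omega
  · have h3 := fact_of_eq (mul_ne_zero (mul_ne_zero hp0 (by omega)) (by omega))
      (mul_ne_zero (by norm_num) (pow_ne_zero _ (by omega))) hn0 hc0 h hfac rfl
    rw [fact_mul (mul_ne_zero hp0 (by omega)) (by omega), fact_mul hp0 (by omega), fact_odd hodd,
      fact_odd (by omega : (3 * p - 2) % 2 = 1), fact_mul (by norm_num) (pow_ne_zero _ (by omega)),
      Nat.factorization_pow, fact_odd (by norm_num : 9 % 2 = 1)] at h3
    simp only [Finsupp.coe_smul, Pi.smul_apply, smul_eq_mul] at h3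
    have h4' : 4 ∣ p - 1 := by
      have : 2 ^ 2 ∣ p - 1 := (pow_dvd_pow 2 ha).trans h1
      exact this
    have h5 : (3 * p - 1).factorization 2 < 2 := by
      by_contra hcon
      push Not at hcon
      have := dvd_of_le_fact (by omega) hcon
      omega
    omega
  · have h3 := fact_of_eq (A := 35) (B := 6) (by norm_num) (by norm_num) hn0 hc0
      (by rw [h]; ring) hfac rfl
    have h5 : (6 : ℕ).factorization 2 = 1 := by
      have : (6 : ℕ) = 2 * 3 := rfl
      rw [this, fact_mul (by norm_num) (by norm_num), Nat.prime_two.factorization_self,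
        fact_odd (by norm_num : 3 % 2 = 1)]
    rw [fact_odd (by norm_num : 35 % 2 = 1), h5] at h3
    omega

/-- one fixed point -/
theorem one_fact {p n c : ℕ} (hp : p.Prime) (hp5 : 5 ≤ p) (h : Orders p n c 1)
    (hfac : c.factorization 2 = n.factorization 2) (h4 : 4 ∣ n) (hn0 : n ≠ 0) (hc0 : c ≠ 0)
    (hdvd : 2 ^ n.factorization 2 ∣ 3 * p - 1) :
    (n.factorization 2 = 2 ∧ p % 4 = 3) ∨ p * (3 * p - 2) * c ^ 2 = n * (3 * p - 1) := by
  have hodd : p % 2 = 1 := by
    rcases hp.eq_two_or_odd with h2 | h2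
    · omega
    · exact h2
  have ha : 2 ≤ n.factorization 2 := le_fact hn0 h4
  have h4' : 4 ∣ 3 * p - 1 := by
    have : 2 ^ 2 ∣ 3 * p - 1 := (pow_dvd_pow 2 ha).trans hdvd
    exact this
  have hp0 : p ≠ 0 := by omega
  have hp4 : p % 4 = 3 := by omega
  have h5 : (p - 1).factorization 2 = 1 := by
    obtain ⟨k, hk⟩ : ∃ k, p - 1 = 2 * (2 * k + 1) := ⟨(p - 3) / 4, by omega⟩
    rw [hk, fact_mul (by norm_num) (by omega), Nat.prime_two.factorization_self,
      fact_odd (by omega : (2 * k + 1) % 2 = 1)]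
  rcases h with h | h | ⟨-, h⟩ | ⟨h, -⟩ | ⟨h, -, -⟩
  · exfalso
    have h3 := fact_of_eq (mul_ne_zero hp0 (by omega)) (by omega) hn0 hc0 h hfac rfl
    rw [fact_mul hp0 (by omega), fact_odd hodd, fact_odd (by omega : (p - 2) % 2 = 1)] at h3
    omega
  · left
    have h3 := fact_of_eq (mul_ne_zero hp0 (by omega)) (by omega) hn0 hc0 h hfac rfl
    rw [fact_mul hp0 (by omega), fact_odd hodd, fact_odd (by omega : (2 * p - 1) % 2 = 1),
      fact_mul (by norm_num) (by omega), Nat.prime_two.factorization_self] at h3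
    omega
  · right
    exact h
  · omega
  · omega

end Cfsg.Agent.H322.ThreeP
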